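import Cfsg.Agent.E83.B

/-! Modules for `SL₂(64)` in characteristic two and the adjoint module of `E₈(2)`: definitions. -/

set_option autoImplicit false

namespace CF.Ey

open Module Matrix CF.E83 Finset

/-- The binomial coefficient `m.choose j` is odd. -/
def od (m j : ℕ) : Bool := j &&& m == j

/-- The multiplicity of the weight `i` modulo `N` in the module number `m`. -/
def wt (N m i : ℕ) : ℕ :=
  ((List.range 64).filter fun j => od m j && 2 * j % N == (m + i) % N).length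

/-- The dimension of the module number `m`. -/
def dd (m : ℕ) : ℕ := ((List.range 64).filter (od m)).length

/-- A bound for the dimension of the space of cocycles. -/
def zz (m : ℕ) : ℕ := if m ∈ [1, 2, 4, 8, 16, 32, 63] then 1 else 0

/-- The Frobenius twist. -/
def sh (m : Fin 64) : Fin 64 := if m = 63 then 63 else Fin.ofNat 64 (2 * m % 63)

/-- A weighted sum. -/
def sm (n : Fin 64 → ℕ) (w : ℕ → ℕ) : ℕ := ∑ m, n m * w m

/-- The number of natural modules. -/
def nb (n : Fin 64 → ℕ) : ℕ := n 1 + n 2 + n 4 + n 8 + n 16 + n 32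

/-- Multiplicities of eigenvalues of the elements of order `65`. -/
def T65 : List (List ℕ) := [[8, 3, 4, 3, 4, 5, 3], [8, 4, 3, 4, 3, 5, 3], [12, 7, 4, 3, 2, 3, 2],
  [12, 2, 7, 4, 3, 3, 2], [12, 3, 2, 7, 4, 3, 2], [12, 4, 3, 2, 7, 3, 2]]

section Rep
variable {K V G : Type*} [Field K] [AddCommGroup V] [Module K V] [Group G] (r : G →* End K V)

/-- An invariant subspace. -/
def Inv (A : Submodule K V) : Prop := ∀ g, ∀ v ∈ A, r g v ∈ A

/-- The dimension of an eigenspace. -/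
noncomputable def ed (A : Submodule K V) (g : G) (μ : K) : ℕ :=
  finrank K ↥(A ⊓ (r g).eigenspace μ)

/-- The fixed space. -/
def fx : Submodule K V := ⨅ g, fs (r g)

/-- `B` covers `A` among the invariant subspaces. -/
structure Cov (A B : Submodule K V) : Prop where
  a : Inv r A
  b : Inv r B
  lt : A < B
  mx : ∀ C, Inv r C → A ≤ C → C ≤ B → C = A ∨ C = B

/-- `W` contains the fixed space of `x` and is an ideal for it. -/
def P1 (br : V →ₗ[K] V →ₗ[K] V) (x : G) (W : Submodule K V) : Prop :=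
  (∀ v ∈ W, r x v ∈ W) ∧ fs (r x) ≤ W ∧ ∀ u ∈ fs (r x), ∀ v ∈ W, br u v ∈ W

/-- `v` is central in the fixed space of `x`. -/
def P2 (br : V →ₗ[K] V →ₗ[K] V) (x : G) (v : V) : Prop :=
  v ∈ fs (r x) ∧ ∀ u ∈ fs (r x), br u v = 0

/-- An invariant form. -/
structure Fm (B : V →ₗ[K] V →ₗ[K] K) : Prop where
  symm : ∀ u v, B u v = B v u
  nd : ∀ u, (∀ v, B u v = 0) → u = 0
  inv : ∀ g u v, B (r g u) (r g v) = B u v

/-- A Frobenius map. -/
structure Fr (σ : V →+ V) : Prop where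
  smul : ∀ (c : K) v, σ (c • v) = c ^ 2 • σ v
  inj : Function.Injective σ
  comm : ∀ g v, σ (r g v) = r g (σ v)

/-- The facts that are used about the adjoint module. -/
structure Dt (br : V →ₗ[K] V →ₗ[K] V) (B : V →ₗ[K] V →ₗ[K] K) (σ : V →+ V) : Prop where
  dim : finrank K V = 248
  br_inv : ∀ g u v, r g (br u v) = br (r g u) (r g v)
  fm : Fm r B
  fr : Fr r σ
  irr : ∀ A, Inv r A → A = ⊥ ∨ A = ⊤
  t65 : ∀ (x : G) (l : Kˣ), orderOf x = 65 → orderOf l = 65 →
    [0, 1, 3, 7, 11, 5, 13].map (fun i => ed r ⊤ x ((l ^ i : Kˣ) : K)) ∈ T65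
  t63 : ∀ y : G, orderOf y = 63 → dm r (y ^ 7) ∈ [28, 34, 48] ∧ dm r (y ^ 21) = 86
  z8 : ∀ x : G, x ^ 65 = 1 → dm r x = 8 → ∀ u ∈ fs (r x), ∀ v ∈ fs (r x), br u v = 0
  z12 : ∀ x : G, x ^ 65 = 1 → dm r x = 12 → ∀ A ≤ fs (r x), (∀ u ∈ A, ∀ v ∈ A, br u v ∈ A) →
    6 ≤ finrank K A → ∃ v ∈ A, v ≠ 0 ∧ P2 r br x v
  tor : ∀ x : G, orderOf x = 65 → ∃ b, (∀ H : Subgroup G, x ∈ H → b ∈ H → 25 ∣ Nat.card H) ∧
    (∀ W, P1 r br x W → ∀ v ∈ W, r b v ∈ W) ∧ ∀ v, P2 r br x v → r b v = v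

end Rep

/-- The group. -/
abbrev SL (F : Type*) [Field F] := SpecialLinearGroup (Fin 2) F

/-- The nonzero row vectors. -/
abbrev Pt (F : Type*) [Field F] := {v : Fin 2 → F // v ≠ 0}

section SL
variable {F K : Type*} [Field F] [Field K] (ι : F →+* K)

/-- The root elements. -/
def uu (c : F) : SL F := ⟨!![1, c; 0, 1], by simp⟩

/-- The diagonal elements. -/
def tt (l : Fˣ) : SL F := ⟨!![(l : F), 0; 0, (l : F)⁻¹], by simp⟩

/-- The action on row vectors. -/
def pa (g : SL F) (v : Pt F) : Pt F := ⟨v.1 ᵥ* g.1, fun h => v.2 (by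
  have : (v.1 ᵥ* g.1) ᵥ* (g⁻¹).1 = 0 := by rw [h, zero_vecMul]
  rwa [vecMul_vecMul, show g.1 * (g⁻¹).1 = 1 from congrArg Subtype.val (mul_inv_cancel g),
    vecMul_one] at this)⟩

variable (F K) in
/-- The action on functions. -/
def act : SL F →* End K (Pt F → K) where
  toFun g := LinearMap.funLeft K K (pa g)
  map_one' := by ext f v; simp [pa]
  map_mul' g h := by ext f v; simp [pa]

theorem act_apply (g : SL F) (f : Pt F → K) (v : Pt F) : act F K g f v = f (pa g v) := rfl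

/-- The linear forms. -/
def lf (p : Fin 2 → K) (v : Pt F) : K := ι (v.1 0) * p 0 + ι (v.1 1) * p 1

/-- The simple modules. -/
def Lm (m : ℕ) : Submodule K (Pt F → K) :=
  Submodule.span K (Set.range fun p v => lf ι p v ^ m)

/-- `g` is diagonalizable with the eigenvalues `l` and `l⁻¹`. -/
def Ev (g : SL F) (l : Kˣ) : Prop := ∃ p q : Fin 2 → K, p 0 * q 1 ≠ p 1 * q 0 ∧
  g.1.map ι *ᵥ p = (l : K) • p ∧ g.1.map ι *ᵥ q = (l : K)⁻¹ • q

variable {V : Type*} [AddCommGroup V] [Module K V] (r : SL F →* End K V)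

/-- The equivariant cocycles of the root subgroup with values in `A`. -/
def Zc (A : Submodule K V) : Submodule K (F → V) where
  carrier := {f | (∀ c, f c ∈ A) ∧ (∀ c d, f (c + d) = f c + r (uu c) (f d)) ∧
    ∀ (l : Fˣ) c, f (l ^ 2 * c) = r (tt l) (f c)}
  add_mem' := fun {f g} a b => ⟨fun c => add_mem (a.1 c) (b.1 c), fun c d => by
    simp only [Pi.add_apply, a.2.1, b.2.1, map_add]; abel, fun l c => by
    simp only [Pi.add_apply, a.2.2, b.2.2, map_add]⟩
  zero_mem' := ⟨fun _ => zero_mem _, by simp, by simp⟩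
  smul_mem' := fun k f a => ⟨fun c => A.smul_mem k (a.1 c), fun c d => by
    simp only [Pi.smul_apply, a.2.1, map_smul, smul_add], fun l c => by
    simp only [Pi.smul_apply, a.2.2, map_smul]⟩

/-- The factor `B / A` is the module number `m`. -/
def Ty (A B : Submodule K V) (m : ℕ) : Prop := ∃ Φ : V →ₗ[K] (Pt F → K),
  (∀ g, ∀ w ∈ B, Φ (r g w) = act F K g (Φ w)) ∧ B.map Φ = Lm ι m ∧ B ⊓ LinearMap.ker Φ = A

/-- `n` is the list of multiplicities of the composition factors of `A`. -/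
structure Cf (A : Submodule K V) (n : Fin 64 → ℕ) : Prop where
  inv : Inv r A
  ch : ∀ g l N i, Ev ι g l → orderOf l = N → Odd N → ed r A g ((l ^ i : Kˣ) : K) = sm n (wt N · i)
  rk : finrank K A = sm n dd
  z : finrank K (Zc r A) ≤ sm n zz

/-- The multiplicities of the composition factors. -/
noncomputable def nn (A : Submodule K V) : Fin 64 → ℕ := Classical.epsilon (Cf ι r A)

end SL

end CF.Ey
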