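import Cfsg.Agent.Ey.A
import Cfsg.Agent.Ev.D
import Cfsg.Agent.Ev.G3

/-! The adjoint module of `E₈(2)`: definitions. -/

set_option autoImplicit false

namespace CF.Ey

open Module CF.E83 CF.Chev CF.BN CF.ExA Cfsg.Lie Finset CF.Geom.Sm Matrix

/-- The index set of the basis. -/
abbrev Ix := Fin 8 ⊕ Fin 240

section
variable (K : Type*) [Field K]

/-- The Lie bracket. -/
noncomputable def brK : (Ix → K) →ₗ[K] (Ix → K) →ₗ[K] (Ix → K) :=
  (toLin' : Matrix Ix Ix K ≃ₗ[K] _).toLinearMap ∘ₗ cE8.ad K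

theorem brK_apply (u v : Ix → K) : brK K u v = cE8.ad K u *ᵥ v := by
  rw [brK, LinearMap.comp_apply, LinearEquiv.coe_coe, toLin'_apply]

/-- The invariant form. -/
noncomputable def fmK : (Ix → K) →ₗ[K] (Ix → K) →ₗ[K] K := toLinearMap₂' K (CF.Ev.D.kp K)

theorem fmK_apply (u v : Ix → K) : fmK K u v = u ⬝ᵥ CF.Ev.D.kp K *ᵥ v := toLinearMap₂'_apply' _ _ _

/-- The Frobenius map. -/
def frK [CharP K 2] : (Ix → K) →+ (Ix → K) where
  toFun v a := v a ^ 2
  map_zero' := by funext a; simp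
  map_add' u v := by funext a; exact CharTwo.add_sq _ _

end

variable {X : Type*} [Group X] (L : LS cE8 1 2 2 1 X)

/-- The identification with the fixed points. -/
noncomputable def eG : Fx L.T.σ ≃* X :=
  MulEquiv.ofBijective L.θ ⟨L.θ.ker_eq_bot_iff.1 (Subgroup.card_eq_one.1 L.card_ker), L.surj⟩

/-- The embedding in the algebraic group. -/
noncomputable def jG : X →* L.G := (Fx L.T.σ).subtype.comp (eG L).symm.toMonoidHom

theorem in_jG : In 2 L.h (jG L) :=
  ⟨L.big, Subtype.val_injective.comp (eG L).symm.injective, fun x => (in_top L).alg _⟩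

theorem σ_jG (x : X) : L.T.σ (jG L x) = jG L x := ((eG L).symm x).2

theorem exists_jG {g : L.G} (h : L.T.σ g = g) : ∃ x, jG L x = g :=
  ⟨eG L ⟨g, h⟩, congrArg Subtype.val ((eG L).symm_apply_apply _)⟩

theorem exists_μ {m : ℕ} (hm : m.Coprime 2) : ∃ μ : L.Kˣ, orderOf μ = m :=
  exists_orderOf fun e => absurd (hm.symm.eq_one_of_dvd ((CharP.cast_eq_zero_iff L.K 2 m).1 e))
    (by decide)

variable {L} {m : ℕ} {μ : L.Kˣ} {x : X}

theorem exists_diag [NeZero m] (hm : m.Coprime 2) (hμ : orderOf μ = m) (hx : x ^ m = 1) :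
    ∃ g ∈ L.h.Alg 2, ∃ y : Fin 8 → ℤ, jG L x = g * L.h.r3.tor (fun i => μ ^ y i) * g⁻¹ ∧
      ∃ w ∈ cE8.W, Mz cE8 m w *ᵥ red m y = (2 : ℤ) • red m y := by
  obtain ⟨w, hw, c, hc, g, hg', hg⟩ := L.frob.exists_mem_WTor L.big L.σ_tor (s := jG L x)
    (σ_jG L x) (hm.coprime_dvd_left (orderOf_dvd_of_pow_eq_one (by rw [← map_pow, hx, map_one])))
  have h7 : c ^ m = 1 := by
    have := congrArg (· ^ m) hg
    simp only [conj_pow, ← map_pow, hx, map_one] at this
    exact L.h.inj (by simpa using this.symm)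
  choose y _ hy using fun i => (hμ ▸ IsPrimitiveRoot.orderOf μ : IsPrimitiveRoot μ m
    ).eq_pow_of_mem_rootsOfUnity (ξ := c i) (congrFun h7 i)
  obtain rfl : c = fun i => μ ^ ((y i : ℕ) : ℤ) := funext fun i => by rw [zpow_natCast, hy]
  refine ⟨g, hg', _, hg, w, hw, ?_⟩
  rw [mem_WTor_one, mp_zpow, zp_pow', zp_iff hμ] at hc
  rw [Mz_red, ← red_smul]
  exact hc

/-- The check over an alcove. -/
noncomputable def chk (m : ℕ) (Q : List ℤ → List ℕ → Bool) : Bool :=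
  allAlc [2, 3, 4, 6, 5, 4, 3, 2] m (trA adE8 1 fun _ x => 3 * qE (fn 8 x) % m != 0 ||
    Comp.forceL (vals m x) fun l =>
      sl (fun n => 256 ^ (2 * n % m).toNat) l != sl (fun n => 256 ^ n.toNat) l || Q x l)

theorem alc [NeZero m] {Q : List ℤ → List ℕ → Bool} (h : chk m Q) {y : Fin 8 → ℤ}
    {w : Equiv.Perm (Fin 240)} (hw : w ∈ cE8.W) (e : Mz cE8 m w *ᵥ red m y = (2 : ℤ) • red m y) :
    ∃ v ∈ cE8.W, ∃ x : List ℤ, red m (Mw cE8 v *ᵥ y) = red m (vv (gl x)) ∧ Q x (vals m x) := by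
  obtain ⟨v, hv, x, s, h1, -, h3⟩ := alcove (C := cE8) carE8 239 alcE8 h (red m y)
  have h2 : red m (Mw cE8 v *ᵥ y) = red m x := (Mz_red v y).symm.trans h1
  refine ⟨v, hv, List.ofFn x, by rwa [vv_ofFn], ?_⟩
  simp only [Bool.or_eq_true, bne_iff_ne, Comp.forceL_eq, fn_ofFn,
    ← ES_eq (NeZero.pos m), vv_ofFn] at h3
  refine (h3.resolve_left fun h => h ?_).resolve_left fun h => h ?_
  · refine Int.emod_eq_zero_of_dvd ((ZMod.intCast_zmod_eq_zero_iff_dvd _ m).1 ?_)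
    have := qE_Mz hw (red m y)
    rw [e] at this
    rw [Int.cast_mul, ← qE_cast, ← h1, qE_Mz hv, ← sub_eq_zero.2 this]
    simp only [qE, Pi.smul_apply, zsmul_eq_mul]
    push_cast; ring
  · rw [← ES_smul m (fun n => 256 ^ n.toNat), ← ES_congr h2, ES_Mw hv, ← ES_Mw hw y,
      ES_congr ((Mz_red w y).symm.trans (e.trans (red_smul 2 y).symm)), ← ES_Mw hv (_ • y)]
    exact ES_congr (by rw [mulVec_smul, red_smul, red_smul, h2])

/-- The elements of order `13`. -/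
def x13 (b : Bool) : List ℤ :=
  if b then [19, 28, 37, 55, 45, 34, 23, 12] else [16, 23, 31, 46, 38, 30, 21, 11]

theorem chk13 : chk 13 fun x _ => x.all (· % 13 == 0) || x == x13 true || x == x13 false := by
  decide +kernel

/-- The representation. -/
noncomputable abbrev rX (L : LS cE8 1 2 2 1 X) (f : L.G →* GL Ix L.K) : X →* End L.K (Ix → L.K) :=
  (RR f).comp (jG L)

end CF.Ey
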