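import Cfsg.Agent.Ey.B
import Cfsg.Agent.Chev.Coord

/-! The adjoint module of `E₈(2)`: bracket, form, Frobenius map, irreducibility. -/

set_option autoImplicit false

namespace CF.Ey

open Module Matrix CF.E83 Finset Cfsg CF.Chev CF.BN CF.ExA Cfsg.Lie CF.Geom.Sm Sum

namespace E1

section
variable {B ι : Type} [Fintype B] [DecidableEq B] [Fintype ι] [DecidableEq ι] {C : LieBasis B ι}
  {K : Type*} [Field K] {θ r s a : ι} {k : ℤ} {v : B ⊕ ι → K}

/-- The filtration by a coroot. -/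
def Fl (C : LieBasis B ι) (θ : ι) (k : ℤ) (v : B ⊕ ι → K) : Prop := ∀ c, v c ≠ 0 → k ≤ C.cor θ (C.wt c)

/-- The difference operator. -/
noncomputable def D (C : LieBasis B ι) (K : Type*) [Field K] (r : ι) : End K (B ⊕ ι → K) := toLin' (C.X r 1) - 1

theorem D_apply (r : ι) (v : B ⊕ ι → K) : D C K r v = C.X r 1 *ᵥ v - v := rfl

theorem up (h0 : 0 ≤ C.A θ r) (h : Fl C θ k v) : Fl C θ (k + C.A θ r) (D C K r v) := fun c hc => by
  have e : ∀ j : ℕ, 1 ≤ j → (C.E K j r *ᵥ v) c ≠ 0 → k + C.A θ r ≤ C.cor θ (C.wt c) := fun j hj a => by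
    obtain ⟨b, -, hb⟩ := exists_ne_zero_of_sum_ne_zero a
    have := h b (right_ne_zero_of_mul hb)
    rw [C.E_graded (left_ne_zero_of_mul hb), map_add, map_smul, ← C.A_def, smul_eq_mul]
    nlinarith [Int.ofNat_le.2 hj]
  by_contra n
  refine hc ?_
  rw [D_apply, C.X_mulVec]
  simp [not_not.1 (mt (e 1 le_rfl) n), not_not.1 (mt (e 2 (by omega)) n), not_not.1 (mt (e 3 (by omega)) n)]

variable (hl : C.SameLen)
include hl

theorem A_cases (r s : ι) : s = r ∨ s = C.neg r ∨ C.A r s = 0 ∨ C.A r s = 1 ∨ C.A r s = -1 := by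
  by_cases h1 : s = r
  · exact .inl h1
  by_cases h2 : s = C.neg r
  · exact .inr (.inl h2)
  have := C.abs_A_le_of_len (hl r s) h1 h2
  omega

theorem N_ne {u : ι} (h : C.vec u = C.vec s + C.vec r) : (C.N r s : K) ≠ 0 := by
  rcases Int.natAbs_eq_iff.1 (C.N_long (fun z => (hl z r).le) h) with e | e <;> simp [e]

/-- The extraction of a root vector. -/
theorem ddd (ha : C.A θ a = 1) (v : B ⊕ ι → K) : ∃ b, ∃ c : K, c ≠ 0 ∧
    D C K θ (D C K a (D C K b v)) = (c * v (inr (C.neg θ))) • LieBasis.bv K (inr θ) := by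
  have sy := fun r s => C.A_symm_of_len (hl r s)
  have hb : C.vec (C.refl a θ) = C.vec θ - C.vec a := by rw [C.vec_refl, sy a θ, ha, one_smul]
  set b := C.refl a θ
  have hθb : C.A θ b = 1 := by rw [C.A_sub hb, C.A_self, ha]; rfl
  have hab : C.A a b = -1 := by rw [C.A_sub hb, C.A_self, sy a θ, ha]; rfl
  have e1 : C.vec (C.neg a) = C.vec (C.neg θ) + C.vec b := by rw [hb, C.vec_neg, C.vec_neg]; abel
  have f0 : Fl C θ (-1) (v - v (inr (C.neg θ)) • LieBasis.bv K (inr (C.neg θ))) := by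
    rintro (i | s) hc
    · simp
    · have : s ≠ C.neg θ := by rintro rfl; simp [LieBasis.bv_apply] at hc
      rw [RootSys.wt_inr, ← C.A_def]
      rcases A_cases hl θ s with rfl | e | e | e | e
      · rw [C.A_self]; omega
      · exact absurd e this
      all_goals omega
  have f3 := up (r := θ) (by rw [C.A_self]; omega) (up (r := a) (by omega) (up (r := b) (by omega) f0))
  have z : D C K θ (D C K a (D C K b (v - v (inr (C.neg θ)) • LieBasis.bv K (inr (C.neg θ))))) = 0 := by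
    funext c
    by_contra n
    have := f3 c n
    rw [C.A_self, ha, hθb] at this
    rcases c with i | s
    · simp at this
    · have := hl.n3.le θ s
      rw [RootSys.wt_inr, ← C.A_def] at *
      omega
  refine ⟨b, -C.N b (C.neg θ), neg_ne_zero.2 (N_ne hl e1), ?_⟩
  simp only [map_sub, map_smul, sub_eq_zero] at z
  rw [z, D_apply b, C.X_one_step 1 e1 fun u => by
      rw [two_smul, ← add_assoc, ← e1]
      exact hl.n3.not_add (by rw [C.A_neg_right, sy b a, hab]; omega) u,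
    add_sub_cancel_left, map_smul, D_apply a, C.X_neg_root, map_smul]
  simp only [one_smul, one_pow, add_sub_assoc]
  rw [add_sub_cancel, map_sub, D_apply, D_apply, C.X_hv, sy a θ, ha,
    C.X_none (s := a) (r := θ) (1 : K) (hl.n3.not_add (by omega)) (C.ne_neg_of_A_nonneg (by omega))]
  simp [smul_smul, mul_comm]

variable {A : Submodule K (B ⊕ ι → K)} (hA : ∀ r, ∀ v ∈ A, C.X r 1 *ᵥ v ∈ A) (h1 : ∀ θ, ∃ a, C.A θ a = 1)
include hA h1

omit hl h1 in
theorem D_mem (r : ι) (h : v ∈ A) : D C K r v ∈ A := sub_mem (hA r v h) h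

theorem ext (h : v ∈ A) (n : v (inr s) ≠ 0) : LieBasis.bv K (inr (C.neg s)) ∈ A := by
  obtain ⟨a, ha⟩ := h1 (C.neg s)
  obtain ⟨b, c, c0, e⟩ := ddd hl ha v
  have := D_mem hA (C.neg s) (D_mem hA a (D_mem hA b h))
  rw [e, C.neg_neg] at this
  exact (A.smul_mem_iff (mul_ne_zero c0 n)).1 this

theorem ng (h : LieBasis.bv K (inr s) ∈ A) : LieBasis.bv K (inr (C.neg s)) ∈ A :=
  ext hl hA h1 h (by simp [LieBasis.bv_apply])

theorem hv (h : LieBasis.bv K (inr s) ∈ A) : C.hv K s ∈ A := by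
  have := add_mem (D_mem hA s (ng hl hA h1 h)) h
  rw [D_apply, C.X_neg_root] at this
  simpa [add_sub_assoc] using this

theorem step (h : LieBasis.bv K (inr r) ∈ A) (n : C.A r s ≠ 0) : LieBasis.bv K (inr s) ∈ A := by
  have := D_mem hA s (hv hl hA h1 h)
  rw [D_apply, C.X_hv] at this
  rcases A_cases hl r s with rfl | rfl | e | e | e
  · exact h
  · exact ng hl hA h1 h
  · exact absurd e n
  all_goals simpa [e] using this

theorem top (hC : C.Conn) (h : LieBasis.bv K (inr r) ∈ A) : A = ⊤ := by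
  have ex : ∀ s, ∃ i, C.A s (C.simple i) ≠ 0 := fun s => by
    by_contra! n
    have : C.cor s = 0 := C.lin_ext fun i => n i
    simpa [this] using C.cor_vec_self s
  have sim : ∀ i, LieBasis.bv K (inr (C.simple i)) ∈ A := fun i => by
    by_contra n
    obtain ⟨j, hj⟩ := ex r
    obtain ⟨a, ha, b, hb, e⟩ := hC {i | LieBasis.bv K (inr (C.simple i)) ∈ A} ⟨j, step hl hA h1 h hj⟩ ⟨i, n⟩
    exact hb (step hl hA h1 ha (by rwa [C.A_simple_simple]))
  refine eq_top_iff.2 fun v _ => ?_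
  rw [LieBasis.eq_sum_bv K v]
  refine A.sum_mem fun c _ => A.smul_mem _ ?_
  rcases c with i | s
  · exact C.hv_simple (K := K) i ▸ hv hl hA h1 (sim i)
  · obtain ⟨i, hi⟩ := ex s
    exact step hl hA h1 (sim i) (mt (C.A_eq_zero_iff _ _).1 hi)

end

theorem sl : cE8.SameLen := fun r s => by
  rw [← one_mul (cE8.len r), ← one_mul (cE8.len s), Ev.D.len1, Ev.D.len1]

theorem a1 (θ : Fin 240) : ∃ a, cE8.A θ a = 1 := by
  obtain ⟨w, hw, i, rfl⟩ := cE8.exists_W_simple θ
  have : ∀ i : Fin 8, ∃ j, cE8.car i j = -1 := by decide +kernel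
  obtain ⟨j, e⟩ := this i
  exact ⟨w (cE8.neg (cE8.simple j)), by
    rw [RootSys.A_aut (cE8.W_le_Aut hw), cE8.A_neg_right, cE8.A_simple_simple, e]; rfl⟩

end E1

variable {X : Type*} [Group X] {L : LS cE8 1 2 2 1 X} {f : L.G →* GL Ix L.K} (hf : L.ρ.IsAdHom f)
include hf

theorem br_G (g : L.G) (u v : Ix → L.K) :
    RR f g (brK L.K u v) = brK L.K (RR f g u) (RR f g v) := by
  have : cE8.IsAut (f g).val := L.ρ.U_induction (p := fun g => cE8.IsAut (f g).val)
    (by rw [map_one]; exact cE8.isAut_one) (fun g r t _ _ ih => by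
      rw [map_mul, Units.val_mul, hf, LieBasis.val_xG]
      exact ih.mul (cE8.isAut_X r t)) (show g ∈ L.ρ.Gp from L.h.top ▸ Subgroup.mem_top _)
  rw [brK_apply, brK_apply]
  show (f g).val *ᵥ _ = cE8.ad L.K ((f g).val *ᵥ u) *ᵥ ((f g).val *ᵥ v)
  rw [mulVec_mulVec, mulVec_mulVec, this]

theorem E1.fm_G (g : L.G) (u v : Ix → L.K) : fmK L.K (RR f g u) (RR f g v) = fmK L.K u v := by
  rw [fmK_apply, fmK_apply]
  exact kap_inv Ev.D.conn Ev.D.len1 hf (L.h.top ▸ Subgroup.mem_top _) _ _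

omit hf in
theorem E1.fm_symm {K : Type*} [Field K] (u v : Ix → K) : fmK K u v = fmK K v u := by
  rw [fmK_apply, fmK_apply, dotProduct_mulVec, ← mulVec_transpose, dotProduct_comm, Ev.D.kp, ← transpose_map,
    kap_symm Ev.D.len1]

omit hf in
theorem E1.fm_ev {K : Type*} [Field K] (r : Fin 240) (v : Ix → K) :
    fmK K (LieBasis.bv K (inr r)) v = v (inr (cE8.neg r)) := by
  rw [fmK_apply, Ev.D.kp, kap_ev]; simp

theorem fm_X : Fm (rX L f) (fmK L.K) :=
  ⟨E1.fm_symm, fun u hu => Ev.D.kp_nd fun a => by rw [← fmK_apply, E1.fm_symm, hu], fun _ => E1.fm_G hf _⟩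

theorem E1.ent (x : X) (a b : Ix) : (f (jG L x)).val a b ^ 2 = (f (jG L x)).val a b := by
  have h1 : f.comp L.T.σ = (GeneralLinearGroup.map L.φ).comp f :=
    StRep.hom_ext L.h.top fun r t => Units.ext (by
      rw [MonoidHom.comp_apply, MonoidHom.comp_apply, L.σ_x, hf, hf, ← L.φ_eq, LieBasis.val_xG,
        ← LieBasis.X_map']
      rfl)
  have h3 := congrArg (fun F : L.G →* _ => (F (jG L x)).val a b) h1
  simp only [MonoidHom.comp_apply, σ_jG] at h3
  rw [← L.φ_eq]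
  exact h3.symm

theorem fr_X : Fr (rX L f) (frK L.K) := by
  refine ⟨fun c v => funext fun a => mul_pow _ _ _, fun u v h => funext fun a =>
    frobenius_inj L.K 2 (congrFun h a), fun x v => funext fun a => ?_⟩
  show frobenius L.K 2 (((f (jG L x)).val *ᵥ v) a) = ((f (jG L x)).val *ᵥ fun b => v b ^ 2) a
  simp only [mulVec, dotProduct, map_sum, map_mul, frobenius_def, E1.ent hf]

theorem E1.ex_X (r : Fin 240) : ∃ x, ∀ v, rX L f x v = cE8.X r 1 *ᵥ v := by
  obtain ⟨x, e⟩ := exists_jG L (g := L.ρ.x r 1) ((L.σ_x r 1).trans (by rw [one_pow]))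
  exact ⟨x, fun v => by
    show (f (jG L x)).val *ᵥ v = _
    rw [e, hf, LieBasis.val_xG]⟩

theorem irr_X (A : Submodule L.K (Ix → L.K)) (h : Inv (rX L f) A) : A = ⊥ ∨ A = ⊤ := by
  have hA : ∀ r, ∀ v ∈ A, cE8.X r 1 *ᵥ v ∈ A := fun r v hv => (E1.ex_X hf r).elim fun x e => e v ▸ h x v hv
  refine or_iff_not_imp_right.2 fun n => eq_bot_iff.2 fun v hv => ?_
  have z : ∀ v ∈ A, ∀ s, fmK L.K (LieBasis.bv L.K (inr s)) v = 0 := fun v hv s => by
    rw [E1.fm_ev]
    by_contra e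
    exact n (E1.top E1.sl hA E1.a1 Ev.D.conn (E1.ext E1.sl hA E1.a1 hv e))
  refine Ev.D.kp_nd fun a => ?_
  rw [← fmK_apply]
  rcases a with i | s
  · obtain ⟨x, e⟩ := E1.ex_X hf (cE8.simple i)
    have := (fm_X hf).inv x (LieBasis.bv L.K (inr (cE8.neg (cE8.simple i)))) (rX L f x⁻¹ v)
    rw [z _ (h _ _ hv), ← End.mul_apply, ← map_mul, mul_inv_cancel, map_one, End.one_apply, e, LieBasis.X_neg_root,
      LieBasis.hv_simple] at this
    simpa [z v hv] using this
  · exact z v hv s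

end CF.Ey
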