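import Cfsg.Agent.Ey.E1

/-! Small fixed algebras of elements of order dividing `65`. -/

set_option autoImplicit false

namespace CF.Ey

open Module Matrix CF.E83 Finset Cfsg CF.Chev CF.BN CF.ExA Cfsg.Lie CF.Geom.Sm Sum

namespace E3

section
variable {K : Type*} [Field K] {S : Finset (Fin 240)} {u v : Ix → K} {α β : Fin 240}

/-- The root support lies in `S`. -/
def Su (S : Finset (Fin 240)) (v : Ix → K) : Prop := ∀ r ∉ S, v (inr r) = 0

/-- The value of a root on the toral part. -/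
noncomputable def ev (K : Type*) [Field K] (r : Fin 240) : (Ix → K) →ₗ[K] K :=
  ∑ i : Fin 8, (cE8.sp i (cE8.vec r) : K) • LinearMap.proj (inl i)

theorem ev_apply (r : Fin 240) (v : Ix → K) : ev K r v = ∑ i : Fin 8, (cE8.sp i (cE8.vec r) : K) * v (inl i) := by
  simp [ev]

theorem ev_neg (r : Fin 240) (v : Ix → K) : ev K (cE8.neg r) v = -ev K r v := by
  simp [ev_apply, cE8.vec_neg]

theorem ev_bv (r s : Fin 240) : ev K r (LieBasis.bv K (inr s)) = 0 := by simp [ev_apply, LieBasis.bv_apply]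

theorem ev_hv (r s : Fin 240) : ev K r (cE8.hv K s) = cE8.A s r := by
  simp [cE8.hv_eq_sum, ev_apply, LieBasis.bv_apply, cE8.A_def, cE8.cor_apply, mul_comm]

theorem hv_inr (r s : Fin 240) : cE8.hv K s (inr r) = 0 := by simp [cE8.hv_eq_sum, LieBasis.bv_apply]

theorem brH (hu : ∀ r, u (inr r) = 0) (s : Fin 240) :
    brK K u (LieBasis.bv K (inr s)) = ev K s u • LieBasis.bv K (inr s) := by
  funext c
  rw [brK_apply, cE8.ad_apply, Fintype.sum_sum_type]
  by_cases e : c = inr s <;>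
    simp [hu, cE8.br_inl, Matrix.sum_apply, LieBasis.bv_apply, e, ev_apply, mul_comm]

theorem brE (hv : ∀ r, v (inr r) = 0) (r : Fin 240) : cE8.E K 1 r *ᵥ v = -ev K r v • LieBasis.bv K (inr r) := by
  nth_rewrite 1 [LieBasis.eq_sum_bv K v]
  rw [Fintype.sum_sum_type]
  simp only [hv, zero_smul, sum_const_zero, add_zero, mulVec_sum, mulVec_smul, cE8.E_one_inl, smul_smul, ← sum_smul,
    ev_apply, ← sum_neg_distrib, mul_neg, mul_comm]

theorem cen (hu : Su S u) (hv : ∀ r, v (inr r) = 0) (e : ∀ r ∈ S, ev K r v = 0) : brK K u v = 0 := by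
  rw [brK_apply, cE8.ad_apply, sum_mulVec]
  refine sum_eq_zero fun c _ => ?_
  rw [smul_mulVec]
  rcases c with i | r
  · rw [cE8.br_inl, show diagonal (fun c => (cE8.sp i (cE8.wt c) : K)) *ᵥ v = 0 from
      funext fun c => by rcases c with j | s <;> simp [mulVec_diagonal, hv], smul_zero]
  · by_cases h : r ∈ S
    · rw [cE8.br_inr, brE hv, e r h, neg_zero, zero_smul, smul_zero]
    · rw [hu r h, zero_smul]

theorem core [CharP K 2] (hS : ∀ r, r ∈ S ↔ r = α ∨ r = cE8.neg α ∨ r = β ∨ r = cE8.neg β) (h0 : cE8.A α β = 0)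
    {A : Submodule K (Ix → K)} (hA : ∀ u ∈ A, Su S u) (cl : ∀ u ∈ A, ∀ v ∈ A, brK K u v ∈ A) (d : 6 ≤ finrank K A) :
    ∃ v ∈ A, v ≠ 0 ∧ ∀ u, Su S u → brK K u v = 0 := by
  by_contra! n
  have z : ∀ v ∈ A, (∀ r, v (inr r) = 0) → ev K α v = 0 → ev K β v = 0 → v = 0 := fun v hv a b c => by
    by_contra e
    obtain ⟨u, hu, k⟩ := n v hv e
    refine k (cen hu a fun r hr => ?_)
    rcases (hS r).1 hr with rfl | rfl | rfl | rfl <;> simp [ev_neg, b, c]
  let φ : (Ix → K) →ₗ[K] (Fin 6 → K) := LinearMap.pi ![.proj (inr α), .proj (inr (cE8.neg α)), .proj (inr β),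
    .proj (inr (cE8.neg β)), ev K α, ev K β]
  have k0 : ∀ v, Su S v → φ v = 0 → (∀ r, v (inr r) = 0) ∧ ev K α v = 0 ∧ ev K β v = 0 := fun v hv e =>
    ⟨fun r => by
      by_cases h : r ∈ S
      · rcases (hS r).1 h with rfl | rfl | rfl | rfl
        exacts [congrFun e 0, congrFun e 1, congrFun e 2, congrFun e 3]
      · exact hv r h, congrFun e 4, congrFun e 5⟩
  have i : Function.Injective (φ.domRestrict A) := (injective_iff_map_eq_zero _).2 fun v e =>
    Subtype.ext ((k0 v (hA v v.2) e).elim fun a b => z v v.2 a b.1 b.2)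
  have s : Function.Surjective (φ.domRestrict A) := (LinearMap.injective_iff_surjective_of_finrank_eq_finrank
    (le_antisymm (LinearMap.finrank_le_finrank_of_injective i) (by simpa using d))).1 i
  have ex : ∀ r ∈ S, ∃ w, LieBasis.bv K (inr r) + w ∈ A ∧ (∀ r, w (inr r) = 0) ∧ ev K α w = 0 ∧ ev K β w = 0 :=
    fun r hr => by
      obtain ⟨v, e⟩ := s (φ (LieBasis.bv K (inr r)))
      refine ⟨v.1 - LieBasis.bv K (inr r), by simp, k0 _ (fun s hs => ?_) (by rw [map_sub, ← e]; exact sub_self _)⟩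
      have : s ≠ r := fun e => hs (e ▸ hr)
      simp [hA v v.2 s hs, LieBasis.bv_apply, this]
  obtain ⟨w, m, w1, w2, w3⟩ := ex α ((hS _).2 (.inl rfl))
  obtain ⟨w', m', w1', w2', w3'⟩ := ex (cE8.neg α) ((hS _).2 (.inr (.inl rfl)))
  have := cl _ m _ m'
  rw [map_add, cen (hA _ m) w1' fun r hr => by
      rcases (hS r).1 hr with rfl | rfl | rfl | rfl <;> simp [ev_neg, w2', w3'],
    add_zero, map_add, LinearMap.add_apply, brH w1, ev_neg, w2, neg_zero, zero_smul, add_zero, brK_apply,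
    cE8.ad_root, cE8.E_one_neg] at this
  have e := z _ this (fun r => hv_inr r α) (by rw [ev_hv, cE8.A_self]; exact_mod_cast CharP.cast_eq_zero K 2) (by
    rw [ev_hv, h0, Int.cast_zero])
  obtain ⟨a, ha⟩ := E1.a1 α
  have := ev_hv (K := K) a α
  rw [e, ha, map_zero, Int.cast_one] at this
  exact zero_ne_one this

theorem four (c : #S = 4) (hr : ∀ r ∈ S, ∀ s ∈ S, cE8.refl r s ∈ S) (hn : ∀ r ∈ S, cE8.neg r ∈ S) :
    ∃ α β, (∀ r, r ∈ S ↔ r = α ∨ r = cE8.neg α ∨ r = β ∨ r = cE8.neg β) ∧ cE8.A α β = 0 := by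
  obtain ⟨α, ha⟩ := card_pos.1 (show 0 < #S by omega)
  obtain ⟨β, hb, nb⟩ := exists_mem_notMem_of_card_lt_card (s := {α, cE8.neg α}) (t := S) (card_le_two.trans_lt (by omega))
  simp only [mem_insert, mem_singleton, not_or] at nb
  have e : {α, cE8.neg α, β, cE8.neg β} = S := eq_of_subset_of_card_le (by
    simp [insert_subset_iff, ha, hb, hn]) (by
      rw [c, card_insert_of_notMem, card_insert_of_notMem, card_pair (cE8.self_ne_neg β)]
      · simp only [mem_insert, mem_singleton, not_or]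
        exact ⟨Ne.symm nb.2, fun e => nb.1 (cE8.neg_injective e).symm⟩
      · simp only [mem_insert, mem_singleton, not_or]
        exact ⟨cE8.self_ne_neg α, Ne.symm nb.1, fun e => nb.2 (cE8.eq_neg_comm.1 e)⟩)
  have m : ∀ r, r ∈ S ↔ r = α ∨ r = cE8.neg α ∨ r = β ∨ r = cE8.neg β := fun r => by simp [← e]
  refine ⟨α, β, m, ?_⟩
  have h1 := cE8.A_refl_right α β α
  have h2 := cE8.A_refl_right α β β
  rw [cE8.A_symm_of_len (E1.sl β α)] at h2
  rcases E1.A_cases E1.sl α β with a | a | a | a | a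
  · exact absurd a nb.1
  · exact absurd a nb.2
  · exact a
  all_goals
    rcases (m _).1 (hr α ha β hb) with b | b | b | b <;> rw [b] at h1 h2 <;>
      simp only [cE8.A_neg_right, cE8.A_self, a] at h1 h2 <;> omega

end

variable {X : Type*} [Group X] {L : LS cE8 1 2 2 1 X} {f : L.G →* GL Ix L.K} (hf : L.ρ.IsAdHom f)
include hf

/-- The fixed space of an element of order dividing `65` in coordinates. -/
theorem model {x : X} (hx : x ^ 65 = 1) : ∃ (g : L.G) (S : Finset (Fin 240)),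
    (∀ v, v ∈ fs (rX L f x) ↔ Su S (RR f g v)) ∧ dm (rX L f) x = 8 + #S ∧
      (∀ r ∈ S, ∀ s ∈ S, cE8.refl r s ∈ S) ∧ ∀ r ∈ S, cE8.neg r ∈ S := by
  classical
  obtain ⟨μ, hμ⟩ := exists_μ L (m := 65) (by decide)
  obtain ⟨g, -, y, e, -⟩ := exists_diag (by decide) hμ hx
  have t := RR_tor L.h.r3 hf μ y
  set T := RR f (L.h.r3.tor fun i => μ ^ y i)
  have h1 : ∀ v a, T v a = ((μ ^ nv y a : L.Kˣ) : L.K) * v a := fun v a => by
    have := LinearMap.congr_fun ((Pi.basisFun L.K Ix).ext (f₁ := LinearMap.proj a ∘ₗ T)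
      (f₂ := ((μ ^ nv y a : L.Kˣ) : L.K) • LinearMap.proj a) fun j => by
        rw [LinearMap.comp_apply, t]
        by_cases e : a = j <;> simp [e]) v
    rwa [LinearMap.smul_apply] at this
  have e' : rX L f x = RR f g * T * RR f g⁻¹ := by rw [MonoidHom.comp_apply, e, map_mul, map_mul]
  have c : ∀ v, RR f g⁻¹ (RR f g v) = v := fun v => by rw [← End.mul_apply, ← map_mul, inv_mul_cancel, map_one]; rfl
  have c' : ∀ v, RR f g (RR f g⁻¹ v) = v := fun v => by rw [← End.mul_apply, ← map_mul, mul_inv_cancel, map_one]; rfl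
  refine ⟨g⁻¹, univ.filter fun r => μ ^ pr cE8 y (cE8.vec r) = 1, fun v => ?_, ?_, fun r hr s hs => ?_, fun r hr => ?_⟩
  · rw [mem_fs, e', End.mul_apply, End.mul_apply]
    refine ⟨fun a r hr => ?_, fun a => ?_⟩
    · have := congrFun (congrArg (RR f g⁻¹) a) (inr r)
      rw [c, h1, mul_left_eq_self₀] at this
      exact this.resolve_left fun b => hr (mem_filter.2 ⟨mem_univ _, Units.ext b⟩)
    · rw [show T (RR f g⁻¹ v) = RR f g⁻¹ v from funext fun b => ?_, c']
      rw [h1]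
      rcases b with i | r
      · simp [nv]
      · by_cases h : μ ^ pr cE8 y (cE8.vec r) = 1
        · simp [nv, h]
        · rw [a r (by simpa using h), mul_zero]
  · rw [dm, e', fs_conj, (fs_eig T).1, rk_eig _ t, card_filter, Fintype.sum_sum_type, card_filter]
    simp [nv, -Units.val_zpow_eq_zpow_val]
  · simp only [mem_filter, mem_univ, true_and] at hr hs ⊢
    rw [cE8.vec_refl, map_sub, map_smul, _root_.zpow_sub, hs, smul_eq_mul, mul_comm (cE8.A r s), _root_.zpow_mul, hr]; simp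
  · simp only [mem_filter, mem_univ, true_and] at hr ⊢
    rw [cE8.vec_neg, map_neg, _root_.zpow_neg, hr, inv_one]

omit hf in
theorem inj (g : L.G) : Function.Injective (RR f g) := Function.LeftInverse.injective (g := RR f g⁻¹) fun v => by
  rw [← End.mul_apply, ← map_mul, inv_mul_cancel, map_one]; rfl

end E3

variable {X : Type*} [Group X] {L : LS cE8 1 2 2 1 X} {f : L.G →* GL Ix L.K} (hf : L.ρ.IsAdHom f)
include hf

theorem z8_X (x : X) (hx : x ^ 65 = 1) (h : dm (rX L f) x = 8) :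
    ∀ u ∈ fs (rX L f x), ∀ v ∈ fs (rX L f x), brK L.K u v = 0 := fun u hu v hv => by
  obtain ⟨g, S, a, b, -⟩ := E3.model hf hx
  obtain rfl : S = ∅ := card_eq_zero.1 (by omega)
  refine E3.inj (f := f) g ?_
  rw [br_G hf, map_zero]
  exact E3.cen ((a u).1 hu) (fun r => (a v).1 hv r (notMem_empty r)) fun r hr => absurd hr (notMem_empty r)

theorem z12_X (x : X) (hx : x ^ 65 = 1) (h : dm (rX L f) x = 12) : ∀ A ≤ fs (rX L f x),
    (∀ u ∈ A, ∀ v ∈ A, brK L.K u v ∈ A) → 6 ≤ finrank L.K A →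
      ∃ v ∈ A, v ≠ 0 ∧ P2 (rX L f) (brK L.K) x v := fun A l cl d => by
  obtain ⟨g, S, a, b, c, c'⟩ := E3.model hf hx
  obtain ⟨α, β, m, e⟩ := E3.four (by omega) c c'
  obtain ⟨_, ⟨v, hv, rfl⟩, n, k⟩ := E3.core m e (A := A.map (RR f g)) (by
      rintro _ ⟨u, hu, rfl⟩; exact (a u).1 (l hu)) (by
      rintro _ ⟨u, hu, rfl⟩ _ ⟨v, hv, rfl⟩; exact ⟨_, cl u hu v hv, br_G hf g u v⟩)
    (by rwa [← (Submodule.equivMapOfInjective _ (E3.inj (f := f) g) A).finrank_eq])
  exact ⟨v, hv, fun z => n (by rw [z, map_zero]), l hv, fun u hu => E3.inj (f := f) g (by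
    rw [br_G hf, map_zero]; exact k _ ((a u).1 hu))⟩

end CF.Ey
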