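import Cfsg.Agent.Ey.A

/-! Eigenspaces of elements whose order is prime to the characteristic. -/

set_option autoImplicit false

namespace CF.Ey

open Module CF.E83 Finset Submodule

variable {K V G : Type*} [Field K] [AddCommGroup V] [Module K V] [Group G]
  {r : G →* End K V} {A B : Submodule K V} {g : G} {N : ℕ} {μ : K}

theorem Inv.sup (hA : Inv r A) (hB : Inv r B) : Inv r (A ⊔ B) := fun g v hv => by
  obtain ⟨a, ha, b, hb, rfl⟩ := mem_sup.1 hv
  rw [map_add]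
  exact add_mem_sup (hA g a ha) (hB g b hb)

theorem Inv.inf (hA : Inv r A) (hB : Inv r B) : Inv r (A ⊓ B) := fun g v hv =>
  ⟨hA g v hv.1, hB g v hv.2⟩

theorem ed_one : ed r A g 1 = finrank K ↥(A ⊓ fs (r g)) := by
  rw [ed, show (r g).eigenspace 1 = fs (r g) by ext v; simp [mem_fs]]

theorem ed_conj (h : G) : ed r (A.map (r h)) (h * g * h⁻¹) μ = ed r A g μ := by
  have i : ∀ v, r h⁻¹ (r h v) = v := fun v => by rw [← End.mul_apply, ← map_mul]; simp
  have j : Function.Injective (r h) := Function.LeftInverse.injective i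
  rw [ed, ed, (equivMapOfInjective _ j (A ⊓ (r g).eigenspace μ)).finrank_eq]
  refine congrArg (fun W : Submodule K V => finrank K W) ?_
  ext v
  simp only [Submodule.mem_inf, Submodule.mem_map, End.mem_eigenspace_iff, map_mul, End.mul_apply]
  constructor
  · rintro ⟨⟨w, hw, rfl⟩, e⟩
    exact ⟨w, ⟨hw, j (by rw [map_smul, ← e, i])⟩, rfl⟩
  · rintro ⟨w, ⟨hw, e⟩, rfl⟩
    exact ⟨⟨w, hw, rfl⟩, by rw [i, e, map_smul]⟩

namespace G

/-- The projection on an eigenspace. -/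
noncomputable def pj (T : End K V) (N : ℕ) (μ : K) : End K V :=
  (N : K)⁻¹ • ∑ k ∈ range N, μ⁻¹ ^ k • T ^ k

variable {T : End K V} {v : V}

theorem pow_mem (h : ∀ w ∈ A, T w ∈ A) (k : ℕ) (hv : v ∈ A) : (T ^ k) v ∈ A := by
  induction k with
  | zero => exact hv
  | succ k ih => rw [pow_succ', End.mul_apply]; exact h _ ih

theorem pj_mem (h : ∀ w ∈ A, T w ∈ A) (hv : v ∈ A) : pj T N μ v ∈ A := by
  rw [pj, LinearMap.smul_apply, LinearMap.sum_apply]
  exact A.smul_mem _ (sum_mem fun k _ => A.smul_mem _ (pow_mem h k hv))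

theorem ne0 (hN : (N : K) ≠ 0) (hμ : μ ^ N = 1) : μ ≠ 0 := by
  rintro rfl
  rw [zero_pow (by rintro rfl; simp at hN)] at hμ
  exact zero_ne_one hμ

theorem pj_eig (hN : (N : K) ≠ 0) (hT : T ^ N = 1) (hμ : μ ^ N = 1) (v : V) :
    pj T N μ v ∈ T.eigenspace μ := by
  have h0 := ne0 hN hμ
  have h1 := sum_range_succ (fun k => μ⁻¹ ^ k • T ^ k) N
  rw [sum_range_succ', inv_pow _ N, hμ, hT, pow_zero, pow_zero, inv_one, add_left_inj] at h1
  have h2 : T * ∑ k ∈ range N, μ⁻¹ ^ k • T ^ k = μ • ∑ k ∈ range N, μ⁻¹ ^ k • T ^ k := by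
    conv_rhs => rw [← h1]
    rw [mul_sum, smul_sum]
    refine sum_congr rfl fun k _ => ?_
    rw [mul_smul_comm, smul_smul, pow_succ' T, pow_succ' _ k, mul_inv_cancel_left₀ h0]
  rw [End.mem_eigenspace_iff, ← End.mul_apply, pj, mul_smul_comm, h2, smul_comm]
  rfl

theorem pj_of (hN : (N : K) ≠ 0) (hμ : μ ^ N = 1) (hv : v ∈ T.eigenspace μ) : pj T N μ v = v := by
  have h0 := ne0 hN hμ
  have h1 : ∀ k : ℕ, (T ^ k) v = μ ^ k • v := fun k => by
    induction k with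
    | zero => simp
    | succ k ih => rw [pow_succ', End.mul_apply, ih, map_smul, End.mem_eigenspace_iff.1 hv,
        smul_smul, pow_succ]
  simp only [pj, LinearMap.smul_apply, LinearMap.sum_apply, h1, smul_smul, ← mul_pow,
    inv_mul_cancel₀ h0, one_pow, one_smul, sum_const, card_range, ← Nat.cast_smul_eq_nsmul K,
    inv_mul_cancel₀ hN]

theorem pj_map {V' : Type*} [AddCommGroup V'] [Module K V'] {T' : End K V'} (Φ : V →ₗ[K] V')
    (hB : ∀ w ∈ B, T w ∈ B) (h : ∀ w ∈ B, Φ (T w) = T' (Φ w)) (hv : v ∈ B) :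
    Φ (pj T N μ v) = pj T' N μ (Φ v) := by
  have h1 : ∀ k : ℕ, Φ ((T ^ k) v) = (T' ^ k) (Φ v) := fun k => by
    induction k with
    | zero => rfl
    | succ k ih => rw [pow_succ', pow_succ', End.mul_apply, End.mul_apply, h _ (pow_mem hB k hv), ih]
  simp only [pj, LinearMap.smul_apply, LinearMap.sum_apply, map_smul, map_sum, h1]

theorem inf_sup (hN : (N : K) ≠ 0) (hT : T ^ N = 1) (hμ : μ ^ N = 1) (hA : ∀ w ∈ A, T w ∈ A)
    (hB : ∀ w ∈ B, T w ∈ B) :
    (A ⊔ B) ⊓ T.eigenspace μ = A ⊓ T.eigenspace μ ⊔ B ⊓ T.eigenspace μ := by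
  refine le_antisymm (fun v hv => ?_) (sup_le (inf_le_inf_right _ le_sup_left)
    (inf_le_inf_right _ le_sup_right))
  obtain ⟨a, ha, b, hb, e⟩ := mem_sup.1 hv.1
  rw [← pj_of hN hμ hv.2, ← e, map_add]
  exact add_mem_sup ⟨pj_mem hA ha, pj_eig hN hT hμ _⟩ ⟨pj_mem hB hb, pj_eig hN hT hμ _⟩

end G

open G

theorem fs_range (hN : (N : K) ≠ 0) (hg : g ^ N = 1) :
    LinearMap.range (r g - 1) ⊓ fs (r g) = ⊥ := by
  refine eq_bot_iff.2 ?_
  rintro _ ⟨⟨w, rfl⟩, h⟩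
  have h1 : r g ^ N = 1 := by rw [← map_pow, hg, map_one]
  have h2 := End.mem_eigenspace_iff.1 (pj_eig hN h1 (one_pow N) w)
  rw [mem_bot, ← pj_of hN (one_pow N) (T := r g) (End.mem_eigenspace_iff.2
    ((mem_fs.1 h).trans (one_smul _ _).symm)), LinearMap.sub_apply, map_sub, ← pj_map (B := ⊤) (r g)
    (fun _ _ => trivial) (fun _ _ => rfl) trivial, h2, one_smul, End.one_apply, sub_self]

variable [FiniteDimensional K V]

theorem exists_cov (hA : Inv r A) (hB : Inv r B) (h : A < B) : ∃ C ≤ B, Cov r A C := by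
  obtain ⟨C, ⟨c1, c2, c3⟩, m⟩ := exists_minimalFor_of_wellFoundedLT
    (fun C => Inv r C ∧ A < C ∧ C ≤ B) (fun C => finrank K C) ⟨B, hB, h, le_rfl⟩
  refine ⟨C, c3, hA, c1, c2, fun D d1 d2 d3 => d2.eq_or_lt.imp Eq.symm fun k => ?_⟩
  exact eq_of_le_of_finrank_le d3 (m ⟨d1, k, d3.trans c3⟩ (finrank_mono d3))

theorem exists_max {P : Submodule K V → Prop} (h0 : P ⊥) (h : ∀ A B, P A → P B → P (A ⊔ B)) :
    ∃ W, P W ∧ ∀ A, P A → A ≤ W := by
  obtain ⟨W, w, m⟩ := exists_maximal_of_wellFoundedGT P ⟨⊥, h0⟩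
  exact ⟨W, w, fun A a => le_sup_left.trans (m (h A W a w) le_sup_right)⟩

theorem exists_cov' (hB : Inv r B) (h : B ≠ ⊥) : ∃ A, Cov r A B := by
  obtain ⟨A, a, m⟩ := exists_maximal_of_wellFoundedGT (fun A => Inv r A ∧ A < B)
    ⟨⊥, fun _ _ h => by rw [(mem_bot K).1 h, map_zero]; exact zero_mem _, bot_lt_iff_ne_bot.2 h⟩
  exact ⟨A, a.1, hB, a.2, fun C c1 c2 c3 => c3.eq_or_lt.symm.imp_left fun k =>
    le_antisymm (m ⟨c1, k⟩ c2) c2⟩

theorem ed_map {V' : Type*} [AddCommGroup V'] [Module K V'] {r' : G →* End K V'} (Φ : V →ₗ[K] V')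
    (hN : (N : K) ≠ 0) (hg : g ^ N = 1) (hμ : μ ^ N = 1) (hB : ∀ w ∈ B, r g w ∈ B)
    (h : ∀ w ∈ B, Φ (r g w) = r' g (Φ w)) :
    ed r B g μ = ed r (B ⊓ LinearMap.ker Φ) g μ + ed r' (B.map Φ) g μ := by
  have h1 : r g ^ N = 1 := by rw [← map_pow, hg, map_one]
  have h2 : (B ⊓ (r g).eigenspace μ).map Φ = B.map Φ ⊓ (r' g).eigenspace μ := by
    refine le_antisymm ?_ ?_
    · rintro _ ⟨w, ⟨hw, e⟩, rfl⟩
      exact ⟨⟨w, hw, rfl⟩, End.mem_eigenspace_iff.2 (by
        rw [← h w hw, End.mem_eigenspace_iff.1 e, map_smul])⟩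
    · rintro _ ⟨⟨w, hw, rfl⟩, e⟩
      exact ⟨_, ⟨pj_mem hB hw, pj_eig hN h1 hμ w⟩, (pj_map Φ hB h hw).trans (pj_of hN hμ e)⟩
  rw [ed, ed, ed, ← rk_map Φ (B ⊓ _), h2, add_comm, inf_right_comm]

theorem ed_sup (hN : (N : K) ≠ 0) (hg : g ^ N = 1) (hμ : μ ^ N = 1) (hA : ∀ w ∈ A, r g w ∈ A)
    (hB : ∀ w ∈ B, r g w ∈ B) :
    ed r (A ⊔ B) g μ + ed r (A ⊓ B) g μ = ed r A g μ + ed r B g μ := by
  rw [ed, ed, ed, ed, inf_sup hN (by rw [← map_pow, hg, map_one]) hμ hA hB,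
    inf_inf_distrib_right, finrank_sup_add_finrank_inf_eq]

section
open LinearMap.BilinForm
variable {b : V →ₗ[K] V →ₗ[K] K} (h : Fm r b)
include h

omit [FiniteDimensional K V] in
theorem Fm.mv (g : G) (u v : V) : b (r g u) v = b u (r g⁻¹ v) := by
  rw [← h.inv g u, ← End.mul_apply (r g) (r g⁻¹), ← map_mul, mul_inv_cancel, map_one, End.one_apply]

omit [FiniteDimensional K V] in
theorem Fm.inv_perp (hA : Inv r A) : Inv r (orthogonal b A) := fun g v hv w hw => by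
  have := h.mv g⁻¹ w v
  rw [inv_inv] at this
  exact this.symm.trans (hv _ (hA _ w hw))

omit [FiniteDimensional K V] in
theorem Fm.nd' : LinearMap.BilinForm.Nondegenerate b :=
  ⟨h.nd, fun u e => h.nd u fun v => (h.symm u v).trans (e v)⟩

theorem Fm.perp_perp (A : Submodule K V) : orthogonal b (orthogonal b A) = A :=
  orthogonal_orthogonal h.nd' (fun u v e => (h.symm v u).trans e) A

theorem Fm.rk_perp (A : Submodule K V) : finrank K (orthogonal b A) + finrank K A = finrank K V := by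
  have := finrank_le A
  rw [finrank_orthogonal h.nd']
  omega

omit [FiniteDimensional K V] in
theorem Fm.eig (h0 : μ ≠ 0) :
    (r g).eigenspace μ⁻¹ = orthogonal b (LinearMap.range (r g - μ • 1)) := by
  have i : ∀ v, r g (r g⁻¹ v) = v := fun v => by rw [← End.mul_apply, ← map_mul]; simp
  ext v
  rw [End.mem_eigenspace_iff]
  constructor
  · rintro e _ ⟨w, rfl⟩
    have := h.inv g w v
    rw [e, map_smul, smul_eq_mul, inv_mul_eq_iff_eq_mul₀ h0] at this
    simp [LinearMap.BilinForm.IsOrtho, this]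
  · intro e
    have k : r g⁻¹ v - μ • v = 0 := h.nd _ fun w => by
      have := e _ ⟨w, rfl⟩
      simpa [LinearMap.BilinForm.IsOrtho, h.mv, h.symm w] using this
    rw [eq_inv_smul_iff₀ h0, ← map_smul, ← sub_eq_zero.1 k, i]

theorem Fm.ed_perp (hN : (N : K) ≠ 0) (hg : g ^ N = 1) (hμ : μ ^ N = 1)
    (hA : ∀ w ∈ A, r g w ∈ A) :
    ed r A g μ + ed r (orthogonal b A) g μ⁻¹ = ed r ⊤ g μ⁻¹ := by
  have h0 := ne0 hN hμ
  have h1 : r g ^ N = 1 := by rw [← map_pow, hg, map_one]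
  obtain ⟨P, hP⟩ : ∃ P, P = LinearMap.range (r g - μ • 1) := ⟨_, rfl⟩
  have h2 : orthogonal b A ⊓ orthogonal b P = orthogonal b (A ⊔ P) := le_antisymm
    (fun v hv w hw => by
      obtain ⟨a, ha, c, hc, rfl⟩ := mem_sup.1 hw
      exact (LinearMap.congr_fun (map_add b a c) v).trans (by
        rw [LinearMap.add_apply, show b a v = 0 from hv.1 a ha, show b c v = 0 from hv.2 c hc,
          add_zero]))
    (le_inf (orthogonal_le le_sup_left) (orthogonal_le le_sup_right))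
  have h3 : ∀ v ∈ P, pj (r g) N μ v = 0 := fun v hv => by
    obtain ⟨w, rfl⟩ := hP.le hv
    rw [LinearMap.sub_apply, map_sub, ← pj_map (B := ⊤) (r g) (fun _ _ => trivial)
      (fun _ _ => rfl) trivial, End.mem_eigenspace_iff.1 (pj_eig hN h1 hμ w)]
    simp
  have h4 : (r g).eigenspace μ ⊓ P = ⊥ := eq_bot_iff.2 fun v hv =>
    (pj_of hN hμ hv.1).symm.trans (h3 v hv.2)
  have h5 : (r g).eigenspace μ ⊔ P = ⊤ := eq_top_of_finrank_eq (by
    have := finrank_sup_add_finrank_inf_eq ((r g).eigenspace μ) P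
    rw [h4, finrank_bot, add_zero] at this
    rw [this, hP, End.eigenspace_def, add_comm, LinearMap.finrank_range_add_finrank_ker])
  have h6 : A ⊔ P = A ⊓ (r g).eigenspace μ ⊔ P := le_antisymm (sup_le (fun a ha => by
    obtain ⟨e, he, c, hc, k⟩ := mem_sup.1 (h5.ge (mem_top (x := a)))
    have := pj_mem (N := N) (μ := μ) hA ha
    rw [← k, map_add, h3 c hc, add_zero, pj_of hN hμ he] at this
    exact k ▸ add_mem_sup ⟨this, he⟩ hc) le_sup_right) (sup_le_sup_right inf_le_left _)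
  have h7 := finrank_sup_add_finrank_inf_eq (A ⊓ (r g).eigenspace μ) P
  have h8 := h.rk_perp (A ⊔ P)
  have h9 := h.rk_perp P
  rw [← h6, inf_assoc, h4, inf_bot_eq, finrank_bot] at h7
  rw [ed, ed, ed, h.eig h0, ← hP, h2, top_inf_eq]
  omega

end

theorem Fr.ed_sq [IsAlgClosed K] [CharP K 2] {σ : V →+ V} (h : Fr r σ) (hA : ∀ v ∈ A, σ v ∈ A)
    (hN : Odd N) (hμ : μ ^ N = 1) : ed r A g (μ ^ 2) = ed r A g μ := by
  have h1 : ∀ μ : K, ed r A g μ ≤ ed r A g (μ ^ 2) := fun μ => by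
    let c := Module.finBasis K ↥(A ⊓ (r g).eigenspace μ)
    have := (Fintype.linearIndependent_iff (R := K) (v := fun i => (⟨σ (c i), hA _ (c i).2.1,
      End.mem_eigenspace_iff.2 (by rw [← h.comm, End.mem_eigenspace_iff.1 (c i).2.2, h.smul])⟩ :
        ↥(A ⊓ (r g).eigenspace (μ ^ 2))))).2 fun a e i => by
      choose s hs using fun i => IsAlgClosed.exists_pow_nat_eq (a i) two_pos
      have k : ∑ i, s i • c i = 0 := Subtype.ext (h.inj (by
        simpa [map_sum, h.smul, hs] using congrArg Subtype.val e))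
      rw [← hs, Fintype.linearIndependent_iff.1 c.linearIndependent s k i, zero_pow two_ne_zero]
    simpa [ed] using this.fintype_card_le_finrank
  have h2 : ∀ k, ed r A g (μ ^ 2) ≤ ed r A g (μ ^ 2 ^ (k + 1)) := fun k => by
    induction k with
    | zero => simp
    | succ k ih => exact ih.trans ((h1 _).trans_eq (by rw [← pow_mul, ← pow_succ]))
  refine le_antisymm ?_ (h1 μ)
  have h3 := h2 (N.totient - 1)
  rwa [Nat.sub_add_cancel (Nat.totient_pos.2 hN.pos), pow_eq_pow_mod (2 ^ _) hμ,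
    Nat.ModEq.pow_totient (Nat.coprime_two_left.2 hN), ← pow_eq_pow_mod _ hμ, pow_one] at h3

end CF.Ey
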