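import Cfsg.Agent.Ey.A

/-! Arithmetic of the Brauer characters of `SL₂(64)`. -/

set_option autoImplicit false

namespace CF.Ey

open Module Matrix CF.E83 Finset

namespace IP

/-- The formal characters. -/
def cc (m k : ℕ) : ℕ := if (m + k) % 2 = 0 ∧ od m ((m + k) / 2) then 1 else 0

theorem sm_congr (n : Fin 64 → ℕ) {w w' : ℕ → ℕ} (h : ∀ m : Fin 64, w m = w' m) :
    sm n w = sm n w' := sum_congr rfl fun m _ => by rw [h]

theorem sm_add (n : Fin 64 → ℕ) (w w' : ℕ → ℕ) : sm n (fun m => w m + w' m) = sm n w + sm n w' := by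
  simp only [sm, mul_add, sum_add_distrib]

theorem wt_congr {N i j : ℕ} (m : ℕ) (h : i % N = j % N) : wt N m i = wt N m j := by
  unfold wt
  rw [Nat.add_mod m i, h, ← Nat.add_mod]

/-- A form of `wt` that evaluates faster. -/
noncomputable def wf (N m t n : ℕ) : ℕ :=
  Nat.rec 0 (fun j a => cond (Nat.beq (Nat.land j m) j)
    (cond (Nat.beq (Nat.mod (Nat.mul 2 j) N) t) (Nat.succ a) a) a) n

theorem wt_wf (N m i : ℕ) : wt N m i = wf N m ((m + i) % N) 64 := by
  unfold wt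
  generalize 64 = n
  induction n with
  | zero => rfl
  | succ n ih =>
    rw [List.range_succ, List.filter_append, List.length_append, ih]
    show _ = cond (Nat.beq (n &&& m) n) (cond (Nat.beq (2 * n % N) _) (wf _ _ _ n + 1) (wf _ _ _ n))
      (wf _ _ _ n)
    have e : ∀ a b : ℕ, Nat.beq a b = (a == b) := fun a b => by
      rw [Bool.eq_iff_iff, Nat.beq_eq, beq_iff_eq]
    rw [e, e, List.filter_singleton, od]
    cases n &&& m == n <;> cases 2 * n % N == (m + i) % N <;> rfl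

/-- A closed form of `wt`. -/
def cl (N m t : ℕ) : ℕ :=
  (if od m (t * ((N + 1) / 2) % N) then 1 else 0) + if t = 0 ∧ m = N then 1 else 0

theorem wf_cl : ∀ N ∈ [63, 65], ∀ m : Fin 64, ∀ t < N, wf N m t 64 = cl N m t := by decide +kernel

theorem wt63 (m : Fin 64) (i : ℕ) : wt 63 m i = cl 63 m ((m + i) % 63) :=
  (wt_wf ..).trans (wf_cl _ (by decide) _ _ (Nat.mod_lt _ (by decide)))

theorem wt65 (m : Fin 64) (i : ℕ) : wt 65 m i = cl 65 m ((m + i) % 65) :=
  (wt_wf ..).trans (wf_cl _ (by decide) _ _ (Nat.mod_lt _ (by decide)))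

theorem c65 : ∀ m : Fin 64, (wt 65 m 0 = cc m 0 ∧ wt 65 m 1 = cc m 1) ∧
    ∀ j < 62, wt 65 m (j + 2) = cc m (j + 2) + cc m (63 - j) := by
  simp only [wt65]; decide +kernel

theorem c63 : ∀ m : Fin 64, wt 63 m 0 = cc m 0 + (cc m 63 + cc m 63) ∧
    ∀ j < 62, wt 63 m (j + 1) = cc m (j + 1) + cc m (63 - (j + 1)) := by
  simp only [wt63]; decide +kernel

theorem c_tri : ∀ m k : Fin 64, (m = k → cc m k = 1) ∧ (m < k → cc m k = 0) := by decide +kernel

theorem sh_bij : Function.Bijective sh := by decide +kernel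

theorem w_sh (N : ℕ) (hN : N = 63 ∨ N = 65) : ∀ m : Fin 64, ∀ i < N,
    wt N (sh m) (2 * i) = wt N m i ∧ wt N m ((N - 1) * i) = wt N m i := by
  rcases hN with rfl | rfl
  · simp only [wt63]; decide +kernel
  · simp only [wt65]; decide +kernel

/-- Representatives of the orbits. -/
def rp : Fin 14 → Fin 64 := ![0, 1, 3, 5, 7, 9, 11, 13, 15, 21, 23, 27, 31, 63]

/-- The number of the orbit. -/
def ix (m : Fin 64) : Fin 14 := [0, 1, 1, 2, 1, 3, 2, 4, 1, 5, 3, 6, 2, 7, 4, 8, 1, 3, 5, 7, 3, 9, 6,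
  10, 2, 6, 7, 11, 4, 10, 8, 12, 1, 2, 3, 4, 5, 6, 7, 8, 3, 7, 9, 10, 6, 11, 10, 12, 2, 4, 6, 8, 7,
  10, 11, 12, 4, 8, 10, 12, 8, 12, 12, 13].getD m 0

theorem ix_sh : ∀ m, ∃ k < 6, sh^[k] (rp (ix m)) = m := by decide +kernel

theorem n_ix {n : Fin 64 → ℕ} (h : n ∘ sh = n) (m : Fin 64) : n m = n (rp (ix m)) := by
  have : ∀ k m, n (sh^[k] m) = n m := fun k => by
    induction k with
    | zero => exact fun _ => rfl
    | succ k ih => exact fun m => (ih (sh m)).trans (congrFun h m)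
  obtain ⟨k, -, e⟩ := ix_sh m
  rw [← this k (rp _), e]

theorem sm_ix {n : Fin 64 → ℕ} (h : n ∘ sh = n) (w : ℕ → ℕ) (c : List ℕ)
    (e : ∀ j : Fin 14, ∑ m with ix m = j, w (m : Fin 64) = c.getD j 0) :
    sm n w = ∑ j : Fin 14, n (rp j) * c.getD j 0 := by
  rw [sm, ← sum_fiberwise univ ix]
  refine sum_congr rfl fun j _ => ?_
  rw [← e, mul_sum]
  exact sum_congr rfl fun m hm => by rw [n_ix h, (mem_filter.1 hm).2]

/-- A bounded quantifier. -/
def al (n : ℕ) (p : ℕ → Bool) : Bool := (List.range n).all p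

/-- An implication. -/
def im (a b : ℕ) (q : Bool) : Bool := a != b || q

theorem al_iff (n : ℕ) (p : ℕ → Bool) : al n p = true ↔ ∀ i < n, p i = true := by simp [al]

theorem im_iff (a b : ℕ) (q : Bool) : im a b q = true ↔ (a = b → q = true) := by
  simp [im, or_iff_not_imp_left]

theorem ar : (T65.all fun x => al 2 fun h => al 2 fun i => al 2 fun k => al 2 fun m => al 4 fun n =>
    al 4 fun j => im (h * 3 + (i * 3 + (j + (k * 3 + (m * 3 + n))))) (x.getD 6 0) <|
    al 4 fun l => al 8 fun g =>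
    im (g + (h + (i + (j + (k * 4 + (l * 2 + (m * 5 + n))))))) (x.getD 4 0) <|
    al 8 fun e => al 8 fun f =>
    im (e + (f + (g * 2 + (i * 2 + (k + (l + (m * 3 + n))))))) (x.getD 3 0) <| al 8 fun d =>
    im (d + (e + (g + (h + (i * 2 + (k + (l + (m * 3 + n)))))))) (x.getD 5 0) <| al 8 fun c =>
    im (c + (d + (e + (h + (i + (k + (m * 3 + n))))))) (x.getD 2 0) <| al 8 fun b =>
    im (b + (c + (e + (i + (m + n))))) (x.getD 1 0) <|
    im (x.getD 0 0 + (c * 12 + (d * 12 + (e * 12 + (f * 6 + (g * 12 + (h * 12 + (i * 36 + (j * 4 +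
      (k * 36 + (l * 18 + (m * 60 + n * 22)))))))))))) 86 <| decide
    (x.getD 0 0 + (f * 6 + (g * 12 + (i * 12 + (k * 12 + (l * 12 + (m * 24 + n * 8)))))) ∈
      [28, 34, 48] → (x.getD 0 0 = 8 ∧ b = 2) ∨ (x.getD 0 0 = 12 ∧ b = 1) ∨
      (x.getD 0 0 = 12 ∧ n ≠ 0 ∧ e + g + h + i + j + k + l + m = 0))) = true := by decide +kernel

theorem bd : ∀ x ∈ T65, x.getD 6 0 < 4 ∧ x.getD 4 0 < 8 ∧ x.getD 3 0 < 8 ∧ x.getD 5 0 < 8 ∧
    x.getD 2 0 < 8 ∧ x.getD 1 0 < 8 := by decide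

theorem ar' {a b c d e f g h i j k l m n : ℕ}
    (T : [a, b + (c + (e + (i + (m + n)))), c + (d + (e + (h + (i + (k + (m * 3 + n)))))),
      e + (f + (g * 2 + (i * 2 + (k + (l + (m * 3 + n)))))),
      g + (h + (i + (j + (k * 4 + (l * 2 + (m * 5 + n)))))),
      d + (e + (g + (h + (i * 2 + (k + (l + (m * 3 + n))))))),
      h * 3 + (i * 3 + (j + (k * 3 + (m * 3 + n))))] ∈ T65)
    (h9 : a + (f * 6 + (g * 12 + (i * 12 + (k * 12 + (l * 12 + (m * 24 + n * 8)))))) ∈ [28, 34, 48])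
    (h3 : a + (c * 12 + (d * 12 + (e * 12 + (f * 6 + (g * 12 + (h * 12 + (i * 36 + (j * 4 +
      (k * 36 + (l * 18 + (m * 60 + n * 22))))))))))) = 86) : (a = 8 ∧ b = 2) ∨ (a = 12 ∧ b = 1) ∨
      (a = 12 ∧ n ≠ 0 ∧ e + g + h + i + j + k + l + m = 0) := by
  have := List.all_eq_true.1 ar _ T
  have z := bd _ T
  simp only [al_iff, im_iff, decide_eq_true_eq, List.getD_cons_succ, List.getD_cons_zero] at z this
  have b1 : h < 2 ∧ i < 2 ∧ k < 2 ∧ m < 2 ∧ n < 4 ∧ j < 4 := by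
    have := z.1; clear * - this; omega
  have b2 : l < 4 ∧ g < 8 := by have := z.2.1; clear * - this; omega
  have b3 : e < 8 ∧ f < 8 := by have := z.2.2.1; clear * - this; omega
  have b4 : d < 8 := by have := z.2.2.2.1; clear * - this; omega
  have b5 : c < 8 := by have := z.2.2.2.2.1; clear * - this; omega
  have b6 : b < 8 := by have := z.2.2.2.2.2; clear * - this; omega
  exact this h b1.1 i b1.2.1 k b1.2.2.1 m b1.2.2.2.1 n b1.2.2.2.2.1 j b1.2.2.2.2.2 rfl l b2.1 g b2.2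
    rfl e b3.1 f b3.2 rfl d b4 rfl c b5 rfl b b6 rfl h3 h9

end IP

open IP

theorem uniq {n n' : Fin 64 → ℕ} (h1 : ∀ i < 65, sm n (wt 65 · i) = sm n' (wt 65 · i))
    (h2 : ∀ i < 63, sm n (wt 63 · i) = sm n' (wt 63 · i)) : n = n' := by
  let P := fun k => sm n (cc · k) = sm n' (cc · k)
  have p0 : P 0 := by
    have := h1 0 (by decide)
    exact (sm_congr n fun m => (c65 m).1.1).symm.trans (this.trans (sm_congr n' fun m => (c65 m).1.1))
  have p1 : P 1 := by
    have := h1 1 (by decide)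
    exact (sm_congr n fun m => (c65 m).1.2).symm.trans (this.trans (sm_congr n' fun m => (c65 m).1.2))
  have a : ∀ j < 62, P (63 - j) → P (j + 2) := fun j hj p => by
    have := h1 (j + 2) (by omega)
    have e := fun n => (sm_congr n (w := (wt 65 · (j + 2))) (w' := fun m => cc m (j + 2) + cc m (63 - j))
      fun m => (c65 m).2 j hj).trans (sm_add n _ _)
    rw [e, e] at this
    simp only [P] at p ⊢
    omega
  have b : ∀ j < 63, P j → P (63 - j) := fun j hj p => by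
    have := h2 j hj
    simp only [P] at p ⊢
    cases j with
    | zero =>
      have e := fun n => (sm_congr n (w := (wt 63 · 0)) (w' := fun m => cc m 0 + (cc m 63 + cc m 63))
        fun m => (c63 m).1).trans (sm_add n _ _)
      rw [e, e, sm_add n, sm_add n'] at this
      simp only [Nat.sub_zero]
      omega
    | succ j =>
      have e := fun n => (sm_congr n (w := (wt 63 · (j + 1)))
        (w' := fun m => cc m (j + 1) + cc m (63 - (j + 1))) fun m => (c63 m).2 j (by omega)).trans (sm_add n _ _)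
      rw [e, e] at this
      omega
  have p : ∀ j < 64, P j := fun j => by
    induction j using Nat.twoStepInduction with
    | zero => exact fun _ => p0
    | one => exact fun _ => p1
    | more j ih _ => exact fun hj => a j (by omega) (b j (by omega) (ih (by omega)))
  funext k
  induction k using WellFoundedGT.induction with
  | ind k ih =>
    have := p k k.2
    simp only [P, sm] at this
    rw [← add_sum_erase _ _ (mem_univ k), ← add_sum_erase _ _ (mem_univ k), (c_tri k k).1 rfl,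
      sum_congr rfl (g := fun m => n' m * cc m k) fun m hm => by
        rcases lt_or_gt_of_ne (ne_of_mem_erase hm) with e | e
        · rw [(c_tri m k).2 e, mul_zero, mul_zero]
        · rw [ih m e]] at this
    omega

theorem wt_sh (N : ℕ) (hN : N = 63 ∨ N = 65) (n : Fin 64 → ℕ) (i : ℕ) :
    sm (n ∘ sh) (wt N · i) = sm n (wt N · (2 * i)) := by
  rw [sm, sm, ← sh_bij.sum_comp fun m => n m * wt N m (2 * i)]
  refine sum_congr rfl fun m _ => ?_
  have := (w_sh N hN m (i % N) (Nat.mod_lt _ (by omega))).1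
  rw [wt_congr _ (Nat.mul_mod_mod ..), wt_congr _ (Nat.mod_mod ..)] at this
  rw [this, Function.comp]

theorem wt_neg (N : ℕ) (hN : N = 63 ∨ N = 65) (m : Fin 64) (i : ℕ) :
    wt N m ((N - 1) * i) = wt N m i := by
  have := (w_sh N hN m (i % N) (Nat.mod_lt _ (by omega))).2
  rwa [wt_congr _ (Nat.mul_mod_mod ..), wt_congr _ (Nat.mod_mod ..)] at this

theorem sm65 (n : Fin 64 → ℕ) : sm n (wt 65 · 0) = n 0 := by
  have : ∀ m : Fin 64, wt 65 m 0 = if m = 0 then 1 else 0 := by decide +kernel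
  simp [sm, this]

theorem sm63 (n : Fin 64 → ℕ) : sm n (wt 63 · 0) = n 0 + 2 * n 63 := by
  have : ∀ m : Fin 64, wt 63 m 0 = (if m = 0 then 1 else 0) + if m = 63 then 2 else 0 := by
    decide +kernel
  simp [sm, this, mul_add, sum_add_distrib, mul_comm]

theorem sm_zz (n : Fin 64 → ℕ) : sm n zz = nb n + n 63 := by
  have : ∀ m : Fin 64, zz m = (if m = 1 then 1 else 0) + (if m = 2 then 1 else 0) +
      (if m = 4 then 1 else 0) + (if m = 8 then 1 else 0) + (if m = 16 then 1 else 0) +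
      (if m = 32 then 1 else 0) + if m = 63 then 1 else 0 := by decide +kernel
  simp [sm, nb, this, mul_add, sum_add_distrib]

theorem nb_sh {n : Fin 64 → ℕ} (h : n ∘ sh = n) : nb n = 6 * n 1 := by
  have a : n 2 = n 1 := n_ix h 2
  have b : n 4 = n 1 := n_ix h 4
  have c : n 8 = n 1 := n_ix h 8
  have d : n 16 = n 1 := n_ix h 16
  have e : n 32 = n 1 := n_ix h 32
  unfold nb
  omega

theorem ip {n : Fin 64 → ℕ} (h : n ∘ sh = n)
    (h1 : [0, 1, 3, 7, 11, 5, 13].map (fun i => sm n (wt 65 · i)) ∈ T65)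
    (h2 : sm n (wt 9 · 0) ∈ [28, 34, 48]) (h3 : sm n (wt 3 · 0) = 86) :
    (n 0 = 8 ∧ nb n = 12) ∨ (n 0 = 12 ∧ nb n = 6) ∨
      (n 0 = 12 ∧ n 63 ≠ 0 ∧ ∀ m, m ≠ 63 → n m ≠ 0 → dd m ≤ 4) := by
  have e0 := sm_ix h (wt 65 · 0) [1, 0, 0, 0, 0, 0, 0, 0, 0, 0, 0, 0, 0, 0]
    (by simp only [wt65]; decide +kernel)
  have e1 := sm_ix h (wt 65 · 1) [0, 1, 1, 0, 1, 0, 0, 0, 1, 0, 0, 0, 1, 1]
    (by simp only [wt65]; decide +kernel)
  have e3 := sm_ix h (wt 65 · 3) [0, 0, 1, 1, 1, 0, 0, 1, 1, 0, 1, 0, 3, 1]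
    (by simp only [wt65]; decide +kernel)
  have e7 := sm_ix h (wt 65 · 7) [0, 0, 0, 0, 1, 1, 2, 0, 2, 0, 1, 1, 3, 1]
    (by simp only [wt65]; decide +kernel)
  have e11 := sm_ix h (wt 65 · 11) [0, 0, 0, 0, 0, 0, 1, 1, 1, 1, 4, 2, 5, 1]
    (by simp only [wt65]; decide +kernel)
  have e5 := sm_ix h (wt 65 · 5) [0, 0, 0, 1, 1, 0, 1, 1, 2, 0, 1, 1, 3, 1]
    (by simp only [wt65]; decide +kernel)
  have e13 := sm_ix h (wt 65 · 13) [0, 0, 0, 0, 0, 0, 0, 3, 3, 1, 3, 0, 3, 1]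
    (by simp only [wt65]; decide +kernel)
  rw [sm_ix h (wt 9 · 0) [1, 0, 0, 0, 0, 6, 12, 0, 12, 0, 12, 12, 24, 8]
    (by simp only [wt_wf]; decide +kernel)] at h2
  rw [sm_ix h (wt 3 · 0) [1, 0, 12, 12, 12, 6, 12, 12, 36, 4, 36, 18, 60, 22]
    (by simp only [wt_wf]; decide +kernel)] at h3
  simp only [List.map, e0, e1, e3, e7, e11, e5, e13] at h1
  have k : n 7 + n 11 + n 13 + n 15 + n 21 + n 23 + n 27 + n 31 = 0 →
      ∀ m, m ≠ 63 → n m ≠ 0 → dd m ≤ 4 := fun z m hm h0 => by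
    have : ∀ m : Fin 64, m ≠ 63 → dd m ≤ 4 ∨ rp (ix m) ∈ [7, 11, 13, 15, 21, 23, 27, 31] := by
      decide +kernel
    refine (this m hm).resolve_right fun e => h0 ?_
    rw [n_ix h]
    simp only [List.mem_cons, List.not_mem_nil, or_false] at e
    rcases e with e | e | e | e | e | e | e | e <;> rw [e] <;> omega
  rw [nb_sh h]
  clear e0 e1 e3 e7 e11 e5 e13
  simp only [Fin.sum_univ_succ, rp, Fin.val_zero, Fin.val_succ, List.getD_cons_succ,
    List.getD_cons_zero, cons_val_zero, cons_val_succ, mul_zero, mul_one, zero_add, add_zero,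
    Fin.sum_univ_zero] at h1 h2 h3
  have := ar' (a := n 0) (b := n 1) (c := n 3) (d := n 5) (e := n 7) (f := n 9) (g := n 11)
    (h := n 13) (i := n 15) (j := n 21) (k := n 23) (l := n 27) (m := n 31) (n := n 63) h1 h2 h3
  rcases this with e | e | e
  · exact .inl ⟨e.1, by rw [e.2]⟩
  · exact .inr (.inl ⟨e.1, by rw [e.2]⟩)
  · exact .inr (.inr ⟨e.1, e.2.1, k e.2.2⟩)

end CF.Ey
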