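import Cfsg.Agent.Ey.M3

/-! An invariant subspace that is stable under the maximal tori through an element of order `65`. -/

set_option autoImplicit false

namespace CF.Ey

open Module Matrix CF.E83 Finset LinearMap.BilinForm

variable {F K V : Type*} [Field F] [Fintype F] [Field K] [IsAlgClosed K] [CharP K 2]
  [AddCommGroup V] [Module K V] [FiniteDimensional K V] {x : SL F} (hF : Fintype.card F = 64)
  {X : Type*} [Group X] {R : X →* End K V} {br : V →ₗ[K] V →ₗ[K] V}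
  {b : V →ₗ[K] V →ₗ[K] K} {σ : V →+ V} {j : SL F →* X} {ι : F →+* K} {A Z U : Submodule K V}
  {h : X}

namespace K

omit [Fintype F] [IsAlgClosed K] [CharP K 2] [FiniteDimensional K V] in
theorem inv_top {G : Type*} [Group G] (r : G →* End K V) : Inv r ⊤ := fun _ _ _ => trivial

omit [Fintype F] [IsAlgClosed K] [CharP K 2] [FiniteDimensional K V] in
theorem inv_bot {G : Type*} [Group G] (r : G →* End K V) : Inv r ⊥ := fun _ _ h => by
  rw [(Submodule.mem_bot K).1 h, map_zero]; exact zero_mem _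

omit [Fintype F] in
theorem cj (hh : h ∈ Subgroup.normalizer (j.range : Set X)) (g : SL F) :
    ∃ g', j g' = h⁻¹ * j g * h := by
  simpa using (Subgroup.mem_normalizer_iff.1 (inv_mem hh) (j g)).1 ⟨g, rfl⟩

omit [Fintype F] [IsAlgClosed K] [CharP K 2] [FiniteDimensional K V] in
theorem inv_map (hh : h ∈ Subgroup.normalizer (j.range : Set X)) (hA : Inv (R.comp j) A) :
    Inv (R.comp j) (A.map (R h)) := by
  rintro g _ ⟨v, hv, rfl⟩
  obtain ⟨g', e⟩ := cj hh g
  refine ⟨_, hA g' v hv, ?_⟩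
  rw [MonoidHom.comp_apply, MonoidHom.comp_apply, e, ← End.mul_apply, ← End.mul_apply, ← map_mul,
    ← map_mul]
  simp [mul_assoc]

omit [Fintype F] [IsAlgClosed K] [CharP K 2] in
theorem rk_map (hj : Function.Injective j) (hh : h ∈ Subgroup.normalizer (j.range : Set X))
    (g : SL F) : ∃ g', orderOf g' = orderOf g ∧ ∀ A : Submodule K V,
      finrank K ↥(A.map (R h) ⊓ fs (R.comp j g)) = finrank K ↥(A ⊓ fs (R.comp j g')) := by
  obtain ⟨g', e⟩ := cj hh g
  have e' : j g = h * j g' * h⁻¹ := by rw [e]; group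
  refine ⟨g', ?_, fun A => ?_⟩
  · rw [← orderOf_injective j hj, ← orderOf_injective j hj g, e']
    exact (MulAut.conj h).orderOf_eq _ |>.symm
  · rw [MonoidHom.comp_apply, MonoidHom.comp_apply, ← ed_one, ← ed_one, e', ed_conj]

include hF

theorem nn_map (hj : Function.Injective j) (hh : h ∈ Subgroup.normalizer (j.range : Set X))
    (hA : Inv (R.comp j) A) : nn ι (R.comp j) (A.map (R h)) 0 = nn ι (R.comp j) A 0 ∧
      nn ι (R.comp j) (A.map (R h)) 63 = nn ι (R.comp j) A 63 := by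
  obtain ⟨x, hx⟩ := exists_65 hF
  obtain ⟨a, ha, -⟩ := exists_gen hF
  have hy : orderOf (tt a) = 63 := (ev_tt (ι := ι) a).ord.trans
    ((orderOf_injective _ (Units.map_injective ι.injective) a).trans ha)
  obtain ⟨x', h1, h2⟩ := rk_map (R := R) hj hh x
  obtain ⟨y', h3, h4⟩ := rk_map (R := R) hj hh (tt a)
  have h5 := h2 A
  have h6 := h4 A
  rw [nn_65 hF ι (inv_map hh hA) hx, nn_65 hF ι hA (h1.trans hx)] at h5
  rw [nn_63 hF ι (inv_map hh hA) hy, nn_63 hF ι hA (h3.trans hy)] at h6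
  omega

/-- The radical and its orthogonal complement. -/
structure RU (ι : F →+* K) (b : V →ₗ[K] V →ₗ[K] K) (r : SL F →* End K V) (Z U : Submodule K V) :
    Prop where
  iZ : Inv r Z
  z0 : nn ι r Z 0 = 0
  mx : ∀ C, Inv r C → nn ι r C 0 = 0 → C ≤ Z
  eq : U = orthogonal b Z

theorem z_iff {r : SL F →* End K V} (hx : orderOf x = 65) (hA : Inv r A) :
    nn ι r A 0 = 0 ↔ A ⊓ fs (r x) = ⊥ := by
  rw [← nn_65 hF ι hA hx, Submodule.finrank_eq_zero]

theorem exists_top (r : SL F →* End K V) (m : Fin 64) :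
    ∃ W, (Inv r W ∧ nn ι r W m = 0) ∧ ∀ A, Inv r A ∧ nn ι r A m = 0 → A ≤ W :=
  exists_max ⟨inv_bot r, by
    have := (inv_bot r).cf hF ι |>.rk
    rw [finrank_bot, eq_comm, sm, sum_eq_zero_iff] at this
    exact (mul_eq_zero.1 (this m (mem_univ _))).resolve_right (by revert m; decide +kernel)⟩
    fun A B a b => ⟨a.1.sup b.1, by
      have := congrFun (nn_sup hF ι a.1 b.1) m
      simp only [Pi.add_apply, a.2, b.2] at this
      omega⟩

namespace RU
variable {r : SL F →* End K V} (fm : Fm r b) (hx : orderOf x = 65) (u : RU ι b r Z U)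
include fm u

omit [IsAlgClosed K] [CharP K 2] hF in
theorem iU : Inv r U := u.eq ▸ fm.inv_perp u.iZ

theorem add : nn ι r Z + nn ι r U = nn ι r ⊤ := u.eq ▸ nn_perp hF ι fm u.iZ

include hx

theorem u63 : nn ι r U 63 = 0 := by
  have h1 := congrFun (u.add hF fm) 63
  have h2 := nn_st hF ι hx u.iZ fun C c e => u.mx C c ((z_iff hF hx c).2 e)
  rw [Pi.add_apply] at h1
  omega

theorem fs_le : fs (r x) ≤ U := by
  have h1 := congrFun (u.add hF fm) 0
  rw [Pi.add_apply, u.z0, zero_add, ← nn_65 hF ι (u.iU fm) hx, ← nn_65 hF ι (inv_top r) hx,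
    top_inf_eq] at h1
  exact inf_eq_right.1 (Submodule.eq_of_le_of_finrank_eq inf_le_right h1)

theorem min (hA : Inv r A) (e : fs (r x) ≤ A) : U ≤ A := by
  have h1 := congrFun (nn_perp hF ι fm hA) 0
  rw [Pi.add_apply, ← nn_65 hF ι hA hx, ← nn_65 hF ι (inv_top r) hx, top_inf_eq,
    inf_eq_right.2 e] at h1
  rw [u.eq, ← fm.perp_perp A]
  exact orthogonal_le (u.mx _ (fm.inv_perp hA) (by omega))

theorem six (fr : Fr r σ) : nb (nn ι r U) = 6 * nn ι r U 1 := by
  let A : Submodule K V :=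
    { carrier := {v | σ v ∈ U}
      add_mem' := fun a b => by simpa using add_mem a b
      zero_mem' := by simp
      smul_mem' := fun c v a => by simpa [fr.smul] using U.smul_mem _ a }
  refine nb_sh (nn_fr hF ι fr (u.iU fm) (u.min hF fm hx (A := A) (fun g v a => ?_) fun v a => ?_))
  · exact (fr.comm g v).symm ▸ u.iU fm g _ a |> fun k : σ (r g v) ∈ U => k
  · exact u.fs_le hF fm hx (mem_fs.2 (by rw [← fr.comm, mem_fs.1 a]))

theorem fix8 (fr : Fr r σ) (h0 : nn ι r ⊤ 0 = 8) (h1 : nb (nn ι r ⊤) = 12) : fx r ≠ ⊥ := fun e => by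
  have h2 := press hF ι (u.iU fm) (u.u63 hF fm hx)
  have h3 := u.six hF fm hx fr
  have h4 := u.add hF fm
  have h5 := congrFun h4 0
  have h6 := congrArg nb h4
  rw [e, inf_bot_eq, finrank_bot] at h2
  rw [Pi.add_apply, u.z0] at h5
  obtain ⟨C, -, c⟩ := exists_cov u.iZ (inv_top r) (lt_top_iff_ne_top.2 fun k => by
    have := u.z0; rw [k] at this; omega)
  obtain ⟨m, h7, -⟩ := c.nn hF ι
  have h8 : nn ι r C 0 ≠ 0 := fun k => c.lt.not_ge (u.mx C c.b k)
  obtain rfl : m = 0 := by_contra fun k => h8 (by simp [h7, u.z0, Ne.symm k])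
  have i := (u.iU fm).inf c.b
  have h9 := nn_mono hF ι i c.b inf_le_right
  have h10 := press hF ι i (Nat.le_zero.1 ((nn_mono hF ι i (u.iU fm) inf_le_left 63).trans
    (u.u63 hF fm hx).le))
  rw [e, inf_bot_eq, finrank_bot, ← nn_65 hF ι i hx, inf_comm U, inf_assoc,
    inf_eq_right.2 (u.fs_le hF fm hx), nn_65 hF ι c.b hx] at h10
  have h11 : nb (nn ι r (C ⊓ U)) ≤ nb (nn ι r Z) := by
    rw [inf_comm]
    have k := fun m : Fin 64 => fun (n : m ≠ 0) => (h9 m).trans_eq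
      (show nn ι r C m = nn ι r Z m by simp [h7, n])
    simp only [nb]
    gcongr <;> exact k _ (by decide)
  simp only [nb, Pi.add_apply] at h1 h2 h3 h6 h10 h11
  omega

theorem fix12 (h0 : nn ι r ⊤ 0 = 12) (h1 : nb (nn ι r ⊤) = 6) : 6 ≤ finrank K (fx r) := by
  have h2 := press hF ι (u.iU fm) (u.u63 hF fm hx)
  have h4 := u.add hF fm
  have h5 := congrFun h4 0
  have h6 := congrArg nb h4
  have h7 := Submodule.finrank_mono (inf_le_right : U ⊓ fx r ≤ fx r)
  rw [Pi.add_apply, u.z0] at h5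
  simp only [nb, Pi.add_apply] at h1 h2 h6
  omega

end RU

theorem br_le {r : SL F →* End K V} (hb : ∀ g u v, r g (br u v) = br (r g u) (r g v))
    {W : Submodule K V} (hW : Inv r W) (h0 : nn ι r W 63 = 0)
    (mx : ∀ A, Inv r A ∧ nn ι r A 63 = 0 → A ≤ W) (h4 : ∀ m, m ≠ 63 → nn ι r ⊤ m ≠ 0 → dd m ≤ 4)
    (n : ℕ) : ∀ P Q, Inv r P → Inv r Q → P ≤ W → Q ≤ W → finrank K P + finrank K Q ≤ n →
      Submodule.map₂ br P Q ≤ W := by
  have cv : ∀ P, Inv r P → P ≤ W → P ≠ ⊥ → ∃ P' C : Submodule K V, Inv r P' ∧ P' < P ∧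
      finrank K C ≤ 4 ∧ P = P' ⊔ C := fun P p e n => by
    obtain ⟨P', c⟩ := exists_cov' p n
    obtain ⟨m, h1, h2⟩ := c.nn hF ι
    have h3 : nn ι r P m ≠ 0 := by simp [h1]
    have h5 := h4 m (by
      rintro rfl
      exact h3 (Nat.le_zero.1 ((nn_mono hF ι p hW e 63).trans h0.le)))
      fun k => h3 (Nat.le_zero.1 ((nn_mono hF ι p (inv_top r) le_top m).trans k.le))
    obtain ⟨C, hC⟩ := P'.exists_isCompl
    have h6 : P = P' ⊔ C ⊓ P := by rw [← sup_inf_assoc_of_le _ c.lt.le, hC.sup_eq_top, top_inf_eq]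
    have h7 := Submodule.finrank_sup_add_finrank_inf_eq P' (C ⊓ P)
    rw [← h6, ← inf_assoc, hC.inf_eq_bot, bot_inf_eq, finrank_bot] at h7
    exact ⟨P', C ⊓ P, c.a, c.lt, by omega, h6⟩
  induction n with
  | zero =>
    intro P Q _ _ _ _ e
    rw [Submodule.finrank_eq_zero.1 (show finrank K P = 0 by omega), Submodule.map₂_bot_left]
    exact bot_le
  | succ n ih =>
    intro P Q p q hP hQ e
    by_cases a : P = ⊥
    · rw [a, Submodule.map₂_bot_left]; exact bot_le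
    by_cases a' : Q = ⊥
    · rw [a', Submodule.map₂_bot_right]; exact bot_le
    obtain ⟨P', C, p1, p2, p3, p4⟩ := cv P p hP a
    obtain ⟨Q', E, q1, q2, q3, q4⟩ := cv Q q hQ a'
    have h1 := ih P' Q p1 q (p2.le.trans hP) hQ (by have := Submodule.finrank_lt_finrank_of_lt p2; omega)
    have h2 := ih P Q' p q1 hP (q2.le.trans hQ) (by have := Submodule.finrank_lt_finrank_of_lt q2; omega)
    have i : Inv r (Submodule.map₂ br P Q) := fun g v hv =>
      (show Submodule.map₂ br P Q ≤ (Submodule.map₂ br P Q).comap (r g) from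
        Submodule.map₂_le.2 fun u hu v hv => by
          rw [Submodule.mem_comap, hb]
          exact Submodule.apply_mem_map₂ _ (p g u hu) (q g v hv)) hv
    have h3 : W ⊔ Submodule.map₂ br P Q ≤ W ⊔ Submodule.map₂ br C E := by
      refine sup_le le_sup_left ?_
      conv_lhs => rw [p4, Submodule.map₂_sup_left]
      refine sup_le (h1.trans le_sup_left) ?_
      conv_lhs => rw [q4, Submodule.map₂_sup_right]
      exact sup_le_sup ((Submodule.map₂_le_map₂_left (p4 ▸ le_sup_right)).trans h2) le_rfl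
    have h5 : finrank K (Submodule.map₂ br C E) ≤ 16 := by
      rw [TensorProduct.map₂_eq_range_lift_comp_mapIncl]
      refine (LinearMap.finrank_range_le _).trans ?_
      rw [finrank_tensorProduct]
      exact Nat.mul_le_mul p3 q3
    have h6 := Submodule.finrank_mono h3
    have h7 := Submodule.finrank_sup_add_finrank_inf_eq W (Submodule.map₂ br C E)
    exact le_sup_right.trans (mx _ ⟨hW.sup i,
      (nn_small hF ι hW (hW.sup i) le_sup_left (by omega)).trans h0⟩)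

end K

open K in
include hF in
theorem Dt.key (D : Dt R br b σ) {j : SL F →* X} (hj : Function.Injective j) (hx : orderOf x = 65) :
    ∃ W, W ≠ ⊥ ∧ W ≠ ⊤ ∧ (∀ h ∈ Subgroup.normalizer (j.range : Set X), ∀ v ∈ W, R h v ∈ W) ∧
      (P1 R br (j x) W ∨ ∀ v ∈ W, P2 R br (j x) v) := by
  obtain ⟨ι⟩ := exists_ι hF K
  have fm : Fm (R.comp j) b := ⟨D.fm.symm, D.fm.nd, fun g => D.fm.inv _⟩
  have fr : Fr (R.comp j) σ := ⟨D.fr.smul, D.fr.inj, fun g => D.fr.comm _⟩
  obtain ⟨Z, z1, z2⟩ := exists_top hF (ι := ι) (R.comp j) 0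
  have u : RU ι b (R.comp j) Z (orthogonal b Z) := ⟨z1.1, z1.2, fun C a c => z2 C ⟨a, c⟩, rfl⟩
  generalize orthogonal b Z = U at u
  have c := (inv_top (R.comp j)).cf hF ι
  obtain ⟨l, hl⟩ := exists_ev ι (g := x) (by rw [hx]; decide)
  obtain ⟨a, ha, -⟩ := exists_gen hF
  have e := ev_tt (ι := ι) a
  have ho : orderOf (Units.map (ι : F →* K) a) = 63 :=
    (orderOf_injective _ (Units.map_injective ι.injective) a).trans ha
  have h1 := D.t65 (j x) l ((orderOf_injective j hj x).trans hx) (hl.ord.symm.trans hx)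
  have h2 := D.t63 (j (tt a)) ((orderOf_injective j hj _).trans (e.ord.trans ho))
  have k : ∀ k N : ℕ, 63 / Nat.gcd 63 k = N → k ≠ 0 → Odd N →
      dm R (j (tt a) ^ k) = sm (nn ι (R.comp j) ⊤) (wt N · 0) := fun k N h1 h2 h3 => by
    rw [← c.ch _ _ N 0 (e.pow k) (by rw [orderOf_pow' _ h2, ho, h1]) h3, pow_zero, Units.val_one,
      ed_one, top_inf_eq, ← map_pow]
    rfl
  rw [k 7 9 (by decide) (by decide) (by decide), k 21 3 (by decide) (by decide) (by decide)] at h2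
  have h3 : ∀ i, ed R ⊤ (j x) ((l ^ i : Kˣ) : K) = sm (nn ι (R.comp j) ⊤) (wt 65 · i) := fun i =>
    c.ch x l 65 i hl (hl.ord.symm.trans hx) (by decide)
  simp only [h3] at h1
  have h4 : dm R (j x) = nn ι (R.comp j) ⊤ 0 := by
    rw [← nn_65 hF ι (inv_top _) hx, top_inf_eq]; rfl
  have x1 : j x ^ 65 = 1 := by rw [← map_pow, ← hx, pow_orderOf_eq_one, map_one]
  have f1 : fx (R.comp j) ≤ fs (R (j x)) := iInf_le (fun g => fs (R.comp j g)) x
  have f2 : ∀ {v}, v ∈ fx (R.comp j) ↔ ∀ g, R (j g) v = v := by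
    simp [fx, Submodule.mem_iInf, mem_fs]
  have hZ : ∀ h ∈ Subgroup.normalizer (j.range : Set X), ∀ v ∈ Z, R h v ∈ Z := fun h hh v hv =>
    u.mx _ (inv_map hh u.iZ) ((nn_map hF hj hh u.iZ).1.trans u.z0) ⟨v, hv, rfl⟩
  have i1 : ∀ h v, R h (R h⁻¹ v) = v := fun h v => by rw [← End.mul_apply, ← map_mul]; simp
  have hU : ∀ h ∈ Subgroup.normalizer (j.range : Set X), ∀ v ∈ U, R h v ∈ U := fun h hh v hv => by
    rw [u.eq] at hv ⊢
    intro w hw
    rw [← i1 h w]
    exact (D.fm.inv h _ _).trans (hv _ (hZ _ (inv_mem hh) w hw))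
  have fin : ∀ v ∈ fx (R.comp j), v ≠ 0 → P2 R br (j x) v → dm R (j x) < 248 →
      ∃ W, W ≠ ⊥ ∧ W ≠ ⊤ ∧ (∀ h ∈ Subgroup.normalizer (j.range : Set X), ∀ v ∈ W, R h v ∈ W) ∧
      (P1 R br (j x) W ∨ ∀ v ∈ W, P2 R br (j x) v) := fun v v1 v0 v2 d => by
    have m : ∀ {w}, w ∈ fx (R.comp j) ⊓ ⨅ u : U, LinearMap.ker (br u) ↔
        w ∈ fx (R.comp j) ∧ ∀ u ∈ U, br u w = 0 := by simp [Submodule.mem_iInf]
    refine ⟨fx (R.comp j) ⊓ ⨅ u : U, LinearMap.ker (br u), fun k => v0 (k.le (m.2 ⟨v1,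
      u.min hF fm hx (A := LinearMap.ker (br.flip v)) (fun g w hw => ?_) v2.2⟩)), fun k => ?_,
      fun h hh w hw => m.2 ⟨f2.2 fun g => ?_, fun w' hw' => ?_⟩,
      .inr fun w hw => ⟨f1 hw.1, fun w' hw' => (m.1 hw).2 w' (u.fs_le hF fm hx hw')⟩⟩
    · change br (R (j g) w) v = 0
      rw [← f2.1 v1 g, ← D.br_inv, show br w v = 0 from hw, map_zero]
    · rw [dm, eq_top_iff.2 (k.ge.trans (inf_le_left.trans f1)), finrank_top, D.dim] at d
      omega
    · obtain ⟨g', e⟩ := cj hh g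
      conv_rhs => rw [← f2.1 hw.1 g', e]
      rw [← End.mul_apply, ← End.mul_apply, ← map_mul, ← map_mul]
      simp [mul_assoc]
    · rw [← i1 h w', ← D.br_inv, (m.1 hw).2 _ (hU _ (inv_mem hh) w' hw'), map_zero]
  rcases ip (nn_fr hF ι fr (inv_top _) fun _ _ => trivial) h1 h2.1 h2.2 with k | k | k
  · obtain ⟨v, v1, v0⟩ := Submodule.exists_mem_ne_zero_of_ne_bot (u.fix8 hF fm hx fr k.1 k.2)
    exact fin v v1 v0 ⟨f1 v1, fun w hw => D.z8 _ x1 (h4.trans k.1) w hw v (f1 v1)⟩ (by omega)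
  · obtain ⟨v, v1, v0, v2⟩ := D.z12 _ x1 (h4.trans k.1) _ f1 (fun v hv w hw => f2.2 fun g => by
      rw [D.br_inv, f2.1 hv, f2.1 hw]) (u.fix12 hF fm hx k.1 k.2)
    exact fin v v1 v0 v2 (by omega)
  obtain ⟨W, w1, w2⟩ := exists_top hF (ι := ι) (R.comp j) 63
  have w3 := (u.fs_le hF fm hx).trans (w2 U ⟨u.iU fm, u.u63 hF fm hx⟩)
  refine ⟨W, fun e => ?_, fun e => k.2.1 (e ▸ w1.2), fun h hh v hv => w2 _ ⟨inv_map hh w1.1,
    (nn_map hF hj hh w1.1).2.trans w1.2⟩ ⟨v, hv, rfl⟩, .inl ⟨w1.1 x, w3, fun v hv w hw =>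
      br_le hF (fun g => D.br_inv _) w1.1 w1.2 w2 k.2.2 _ W W w1.1 w1.1 le_rfl le_rfl le_rfl
        (Submodule.apply_mem_map₂ _ (w3 hv) hw)⟩⟩
  rw [dm, show fs (R (j x)) = ⊥ from le_bot_iff.1 (e ▸ w3), finrank_bot] at h4
  omega

end CF.Ey
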