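import Cfsg.Agent.Ey.A

/-! The simple modules of `SL₂(64)`. -/

set_option autoImplicit false

namespace CF.Ey

open Module Matrix CF.E83 Finset

namespace L1

/-- The exponents. -/
abbrev ex (m : ℕ) : Finset ℕ := (range 64).filter (od m ·)

theorem ch2 : ∀ m < 64, ∀ j < 64, m.descFactorial j / j.factorial % 2 = if od m j then 1 else 0 := by
  decide +kernel

theorem card_ex (m : ℕ) (p : ℕ → Bool) :
    #{j ∈ ex m | p j} = ((List.range 64).filter fun j => od m j && p j).length := by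
  rw [filter_filter]
  simp only [← Bool.and_eq_true]
  simp [card, Finset.filter, range, Multiset.range]

theorem card_dd (m : ℕ) : #(ex m) = dd m := by simp [card, Finset.filter, range, Multiset.range, dd]

theorem od_le {m j : ℕ} (h : od m j) : j ≤ m := beq_iff_eq.1 h ▸ Nat.and_le_right

variable {F K : Type*} [Field K] {m : ℕ}

theorem pw [CharP K 2] (hm : m < 64) (a b : K) :
    (a + b) ^ m = ∑ j ∈ ex m, a ^ j * b ^ (m - j) := by
  rw [add_pow, sum_subset (range_mono hm : range (m + 1) ⊆ range 64) fun j _ h => by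
    rw [Nat.choose_eq_zero_of_lt (by simpa using h)]; simp, sum_filter]
  refine sum_congr rfl fun j hj => ?_
  rw [CharP.cast_eq_mod K 2, Nat.choose_eq_descFactorial_div_factorial, ch2 m hm j (mem_range.1 hj)]
  split_ifs <;> simp

theorem rk_iff {V I : Type*} [AddCommGroup V] [Module K V] {s : Finset I} {v : I → V} :
    LinearIndepOn K v s ↔ finrank K (Submodule.span K (v '' s)) = #s :=
  linearIndependent_iff_card_eq_finrank_span.trans (by
    rw [Set.finrank, ← Set.image_eq_range, eq_comm]; simp)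

theorem eig {V I : Type*} [AddCommGroup V] [Module K V] [DecidableEq K] {s : Finset I} {v : I → V}
    (h : LinearIndepOn K v s) {T : End K V} {l : I → K} (e : ∀ i ∈ s, T (v i) = l i • v i) (μ : K) :
    finrank K ↥(Submodule.span K (v '' s) ⊓ T.eigenspace μ) = #{i ∈ s | l i = μ} := by
  rw [← rk_iff.1 (h.mono (coe_subset.2 (filter_subset _ s)))]
  refine congrArg (fun W : Submodule K V => finrank K W) (le_antisymm ?_ (Submodule.span_le.2 ?_))
  · rintro w ⟨h1, h2⟩
    obtain ⟨c, rfl⟩ := (Submodule.mem_span_image_finset_iff_exists_fun' K).1 h1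
    have h3 := linearIndepOn_finset_iff.1 h (fun i => c i * (l i - μ)) (by
      rw [← sub_eq_zero.2 (End.mem_eigenspace_iff.1 h2), map_sum, smul_sum, ← sum_sub_distrib]
      exact sum_congr rfl fun i hi => by rw [map_smul, e i hi]; module)
    refine sum_mem fun i hi => ?_
    rcases mul_eq_zero.1 (h3 i hi) with k | k
    · rw [k, zero_smul]; exact zero_mem _
    · exact Submodule.smul_mem _ _ (Submodule.subset_span ⟨i, by simpa [hi, sub_eq_zero] using k, rfl⟩)
  · rintro _ ⟨i, hi, rfl⟩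
    have hi := mem_filter.1 (mem_coe.1 hi)
    exact ⟨Submodule.subset_span ⟨i, hi.1, rfl⟩, End.mem_eigenspace_iff.2 (hi.2 ▸ e i hi.1)⟩

variable [Field F] (ι : F →+* K)

/-- The monomials. -/
def mo (p q : Fin 2 → K) (m j : ℕ) (v : Pt F) : K := lf ι p v ^ j * lf ι q v ^ (m - j)

theorem lf_add (a b : K) (p q : Fin 2 → K) (v : Pt F) :
    lf ι (a • p + b • q) v = a * lf ι p v + b * lf ι q v := by simp [lf]; ring

theorem lf_smul (a : K) (p : Fin 2 → K) (v : Pt F) : lf ι (a • p) v = a * lf ι p v := by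
  simp [lf]; ring

theorem pw_lf [CharP K 2] (hm : m < 64) (a b : K) (p q : Fin 2 → K) :
    (fun v => lf ι (a • p + b • q) v ^ m) = ∑ j ∈ ex m, (a ^ j * b ^ (m - j)) • mo ι p q m j := by
  funext v
  rw [lf_add, pw hm, Finset.sum_apply]
  exact sum_congr rfl fun j _ => by simp only [mo, mul_pow, Pi.smul_apply, smul_eq_mul]; ring

variable [Fintype F] (hF : Fintype.card F = 64)
include hF

theorem poly0 {s : Finset ℕ} (hs : ∀ j ∈ s, j < 64) {c : ℕ → K}
    (h : ∀ a : F, ∑ j ∈ s, c j * ι a ^ j = 0) : ∀ j ∈ s, c j = 0 := fun j hj => by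
  have := Polynomial.eq_zero_of_natDegree_lt_card_of_eval_eq_zero
    (∑ j ∈ s, Polynomial.monomial j (c j)) ι.injective (by simpa [Polynomial.eval_finset_sum] using h)
    (hF ▸ Nat.lt_succ_of_le (Polynomial.natDegree_sum_le_of_forall_le _ _ fun j hj =>
      (Polynomial.natDegree_monomial_le _).trans (Nat.le_of_lt_succ (hs j hj))))
  simpa [Polynomial.coeff_monomial, hj] using congrArg (Polynomial.coeff · j) this

theorem mo_mem [CharP K 2] (hm : m < 64) {p q : Fin 2 → K} {W : Submodule K (Pt F → K)}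
    (h : ∀ a : F, (fun v => lf ι (ι a • p + (1 : K) • q) v ^ m) ∈ W) :
    Submodule.span K (mo ι p q m '' ex m) ≤ W := Submodule.span_le.2 (by
  rintro _ ⟨j, hj, rfl⟩
  refine (Subspace.forall_mem_dualAnnihilator_apply_eq_zero_iff _ _).1 fun φ hφ => ?_
  refine poly0 ι hF (c := fun j => φ (mo ι p q m j)) (fun j hj => mem_range.1 (mem_filter.1 hj).1)
    (fun a => ?_) j hj
  have := (Submodule.mem_dualAnnihilator φ).1 hφ _ (h a)
  rw [pw_lf ι hm] at this
  simpa [mul_comm] using this)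

theorem Lm_eq [CharP K 2] (hm : m < 64) {p q : Fin 2 → K} (h : p 0 * q 1 ≠ p 1 * q 0) :
    Lm ι m = Submodule.span K (mo ι p q m '' ex m) := by
  refine le_antisymm (Submodule.span_le.2 ?_) (mo_mem ι hF hm fun a => Submodule.subset_span ⟨_, rfl⟩)
  · rintro _ ⟨u, rfl⟩
    obtain ⟨a, b, rfl⟩ : ∃ a b : K, u = a • p + b • q := by
      obtain ⟨d, hd⟩ := (sub_ne_zero.2 h).isUnit.exists_right_inv
      refine ⟨(u 0 * q 1 - u 1 * q 0) * d, (p 0 * u 1 - p 1 * u 0) * d, funext fun i => ?_⟩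
      fin_cases i <;> simp
      · linear_combination -u 0 * hd
      · linear_combination -u 1 * hd
    beta_reduce
    rw [pw_lf ι hm]
    exact sum_mem fun j hj => Submodule.smul_mem _ _ (Submodule.subset_span ⟨j, hj, rfl⟩)

omit [Fintype F] hF in
theorem mo_e (j : ℕ) (s : F) : mo ι ![0, 1] ![1, 0] m j ⟨![1, s], by simp⟩ = ι s ^ j := by
  simp [mo, lf]

theorem ind_e : LinearIndepOn K (mo ι ![0, 1] ![1, 0] m) (ex m) :=
  linearIndepOn_finset_iff.2 fun _ h => poly0 ι hF (fun j hj => mem_range.1 (mem_filter.1 hj).1)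
    fun a => by simpa [mo_e, Finset.sum_apply] using congrFun h ⟨![1, a], by simp⟩

end L1

open L1

variable {F K : Type*} [Field F] [Fintype F] [Field K] [IsAlgClosed K] [CharP K 2]
  {ι : F →+* K} {m : ℕ} {g : SL F} {l : Kˣ} (hF : Fintype.card F = 64)
include hF

set_option linter.unusedSectionVars false
set_option linter.unusedVariables false

theorem act_lf (g : SL F) (p : Fin 2 → K) : act F K g (lf ι p) = lf ι (g.1.map ι *ᵥ p) := by
  funext v
  simp [act_apply, lf, pa, vecMul, mulVec, dotProduct]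
  ring

theorem Lm_inv (m : ℕ) : Inv (act F K) (Lm ι m) := fun g f hf => by
  refine (show _ ≤ (Lm ι m).comap (act F K g) from Submodule.span_le.2 ?_) hf
  rintro _ ⟨p, rfl⟩
  exact Submodule.subset_span ⟨_, funext fun v => congrArg (· ^ m) (congrFun (act_lf hF g p) v).symm⟩

theorem Lm_aff (hm : m < 64) (f : Pt F → K) (hf : f ∈ Lm ι m) : ∃ a : ℕ → K, ∀ s : F,
    f ⟨![1, s], by simp⟩ = ∑ j ∈ range 64 with od m j, a j * ι s ^ j := by
  rw [Lm_eq ι hF hm (p := ![0, 1]) (q := ![1, 0]) (by simp)] at hf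
  obtain ⟨c, rfl⟩ := (Submodule.mem_span_image_finset_iff_exists_fun' K).1 hf
  exact ⟨c, fun s => by simp [Finset.sum_apply, mo_e]⟩

theorem Lm_ext (hm : m < 64) (f : Pt F → K) (hf : f ∈ Lm ι m)
    (h : ∀ s : F, f ⟨![1, s], by simp⟩ = 0) : f = 0 := by
  rw [Lm_eq ι hF hm (p := ![0, 1]) (q := ![1, 0]) (by simp)] at hf
  obtain ⟨c, rfl⟩ := (Submodule.mem_span_image_finset_iff_exists_fun' K).1 hf
  refine sum_eq_zero fun j hj => ?_
  rw [poly0 ι hF (c := c) (fun j hj => mem_range.1 (mem_filter.1 hj).1) (fun s => ?_) j hj, zero_smul]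
  simpa [Finset.sum_apply, mo_e] using h s

theorem Lm_rk (hm : m < 64) : finrank K (Lm ι m) = dd m := by
  rw [Lm_eq ι hF hm (p := ![0, 1]) (q := ![1, 0]) (by simp), rk_iff.1 (ind_e ι hF), card_dd]

theorem Lm_ed (hm : m < 64) (h : Ev ι g l) (i : ℕ) :
    ed (act F K) (Lm ι m) g ((l ^ i : Kˣ) : K) = wt (orderOf l) m i := by
  classical
  obtain ⟨p, q, h1, h2, h3⟩ := h
  have h4 : LinearIndepOn K (mo ι p q m) (ex m) := rk_iff.2 (by
    rw [← Lm_eq ι hF hm h1, Lm_rk hF hm, card_dd])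
  rw [ed, Lm_eq ι hF hm h1, eig h4 (l := fun j => l ^ j * (l : K)⁻¹ ^ (m - j)), wt, ← card_ex]
  · refine congrArg _ (filter_congr fun j hj => ?_)
    have := od_le (mem_filter.1 hj).2
    rw [beq_iff_eq, ← Nat.ModEq, ← pow_eq_pow_iff_modEq, ← Units.val_inj, inv_pow,
      mul_inv_eq_iff_eq_mul₀ (by simp), ← mul_left_inj' (c := (l : K) ^ j) (by simp)]
    simp only [Units.val_pow_eq_pow_val, ← pow_add]
    rw [two_mul, show i + (m - j) + j = m + i by omega]
  · refine fun j _ => funext fun v => ?_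
    have k : ∀ p, lf ι p (pa g v) = lf ι (g.1.map ι *ᵥ p) v := fun p => congrFun (act_lf hF g p) v
    simp only [act_apply, mo, k, h2, h3, lf_smul, mul_pow, Pi.smul_apply, smul_eq_mul]
    ring

theorem Lm_le (hm : m < 64) {W : Submodule K (Pt F → K)} (hW : Inv (act F K) W)
    (h : (fun v => lf ι ![1, 0] v ^ m) ∈ W) : Lm ι m ≤ W := by
  rw [Lm_eq ι hF hm (p := ![0, 1]) (q := ![1, 0]) (by simp)]
  refine mo_mem ι hF hm fun a => ?_
  convert hW ⟨!![1, 0; a, 1], by simp⟩ _ h using 2 with v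
  refine .trans ?_ (act_apply _ _ _).symm
  simp [lf, pa, vecHead, vecTail, mul_comm, add_comm]

end CF.Ey
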