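import Cfsg.Agent.Ey.L1

/-! Cocycles with values in the simple modules of `SL₂(64)`, and the Steinberg module. -/

set_option autoImplicit false
set_option linter.unusedSectionVars false

namespace CF.Ey

open Module Matrix CF.E83 Finset L1

variable {F K : Type*} [Field F] [Fintype F] [Field K] [IsAlgClosed K] [CharP K 2]
  {ι : F →+* K} {m : ℕ} (hF : Fintype.card F = 64)

namespace L2

theorem hom {f : Pt F → K} (hf : f ∈ Lm ι m) {a : F} {v w : Pt F} (h : w.1 = a • v.1) :
    f w = ι a ^ m * f v := by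
  induction hf using Submodule.span_induction with
  | mem f hf => obtain ⟨p, rfl⟩ := hf; simp only [lf, h, ← mul_pow]; congr 1; simp; ring
  | zero => simp
  | add f g _ _ a b => simp [a, b, mul_add]
  | smul c f _ a => simp [a, mul_left_comm]

theorem tab : ∀ m < 64, zz m = 1 ∨ ∃ j < 64, od ((32 * m + 62) % 63 + 1) j ∧
    j ≠ (32 * m + 62) % 63 + 1 ∧ ¬ od m j := by decide +kernel

include hF

theorem p63 {s : F} (h : s ≠ 0) : ι s ^ 63 = 1 := by
  rw [← map_pow, show s ^ 63 = 1 by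
    simpa [hF] using FiniteField.pow_card_sub_one_eq_one s h, map_one]

theorem s64 (a : K) : ∑ _ : F, a = 0 := by
  rw [sum_const, card_univ, hF, ← Nat.cast_smul_eq_nsmul K, CharP.cast_eq_mod K 2]; simp

theorem s63 : ∑ s : F, ι s ^ 63 = 1 := by
  classical
  rw [← sub_left_inj (a := ∑ s : F, (1 : K)), ← sum_sub_distrib, sum_eq_single 0
    (fun s _ h => by rw [p63 hF h, sub_self]) (by simp), s64 hF]
  simp [CharTwo.neg_eq]

theorem val {φ : F → Pt F → K} (h : φ ∈ Zc (act F K) (Lm ι m)) (d s : F) :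
    φ d ⟨![1, s], by simp⟩ = φ 1 ⟨![1, 0], by simp⟩ *
      (ι (s + d) ^ ((32 * m + 62) % 63 + 1) - ι s ^ ((32 * m + 62) % 63 + 1)) := by
  have h1 : ∀ c d, φ (c + d) ⟨![1, 0], by simp⟩ = φ c ⟨![1, 0], by simp⟩ + φ d ⟨![1, c], by simp⟩ :=
    fun c d => by
      rw [h.2.1, Pi.add_apply, act_apply]
      congr 2
      exact Subtype.ext (by simp [pa, uu])
  have h2 : ∀ c, φ c ⟨![1, 0], by simp⟩ =
      φ 1 ⟨![1, 0], by simp⟩ * ι c ^ ((32 * m + 62) % 63 + 1) := fun c => by
    by_cases e : c = 0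
    · simpa [e] using h1 0 0
    have h3 := congrFun (h.2.2 (.mk0 _ (pow_ne_zero 32 e)) 1) ⟨![1, 0], by simp⟩
    rw [act_apply, hom (h.1 1) (a := c ^ 32) (v := ⟨![1, 0], by simp⟩) (by simp [pa, tt]),
      Units.val_mk0, mul_one, ← pow_mul, show c ^ (32 * 2) = c by
        simpa [hF] using FiniteField.pow_card c] at h3
    rw [h3, mul_comm, map_pow, ← pow_mul, pow_eq_pow_mod _ (p63 hF e),
      pow_eq_pow_mod (_ + 1) (p63 hF e)]
    congr 2
    omega
  rw [mul_sub, ← h2, ← h2, h1, add_sub_cancel_left]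

end L2

open L2
include hF

theorem Lm_z (hm : m < 64) : finrank K (Zc (act F K) (Lm ι m)) ≤ zz m := by
  have h1 : ∀ φ ∈ Zc (act F K) (Lm ι m), φ 1 ⟨![1, 0], by simp⟩ = 0 → φ = 0 := fun φ h e =>
    funext fun d => Lm_ext hF hm _ (h.1 d) fun s => by rw [val hF h, e, zero_mul]
  rcases tab m hm with e | ⟨j, j1, j2, j3, j4⟩
  · rw [e, ← finrank_self K]
    let E : (F → Pt F → K) →ₗ[K] K := ⟨⟨fun φ => φ 1 ⟨![1, 0], by simp⟩, fun _ _ => rfl⟩, fun _ _ => rfl⟩
    exact LinearMap.finrank_le_finrank_of_injective (f := E.domRestrict _)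
      ((injective_iff_map_eq_zero _).2 fun φ e => Subtype.ext (h1 _ φ.2 e))
  · rw [show Zc (act F K) (Lm ι m) = ⊥ from eq_bot_iff.2 fun φ h => h1 φ h ?_]
    · simp
    obtain ⟨a, ha⟩ := Lm_aff hF hm _ (h.1 1)
    generalize hk : (32 * m + 62) % 63 + 1 = k at j2 j3
    have k1 : k < 64 := by omega
    have := poly0 ι hF (s := range 64) (fun _ => mem_range.1) (c := fun j =>
      φ 1 ⟨![1, 0], by simp⟩ * ((if od k j then 1 else 0) - if j = k then 1 else 0) -
        if od m j then a j else 0) (fun s => by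
        have := ha s
        rw [val hF h, hk, map_add, map_one, pw k1, sum_filter, sum_filter] at this
        simpa [sub_mul, mul_sum, k1, mul_sub, sub_eq_zero] using this) j (mem_range.2 j1)
    simpa [j2, j3, j4] using this

theorem L63 : ∃ z ∈ Lm ι 63, (∀ a, act F K (tt a) z = z) ∧
    ∑ c : F, act F K (uu c) z = fun v => lf ι ![1, 0] v ^ 63 := by
  refine ⟨_, add_mem (Submodule.subset_span ⟨![1, 0], rfl⟩) (Submodule.subset_span ⟨![0, 1], rfl⟩),
    fun a => funext fun v => ?_, funext fun v => ?_⟩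
  · rw [act_apply]
    simp [lf, pa, tt, vecHead, vecTail, mul_pow, p63 hF a.ne_zero]
  · simp only [Finset.sum_apply, act_apply, Pi.add_apply, sum_add_distrib]
    simp only [lf, pa, uu, vecMul, dotProduct, Fin.sum_univ_two]
    by_cases e : v.1 0 = 0
    · simp [e, s64 hF]
    · have := Equiv.sum_comp ((Equiv.mulLeft₀ _ e).trans (Equiv.addRight (v.1 1))) fun s => ι s ^ 63
      simpa [s64 hF, s63 hF, p63 hF e] using this

end CF.Ey
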