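import Cfsg.Agent.Ey.A
import Cfsg.Agent.S2602
import Cfsg.Agent.Classical.Linear

/-! The group `SL₂(64)`. -/

set_option autoImplicit false

namespace CF.Ey

open Module Matrix CF.E83 Finset Cfsg

variable {F K : Type*} [Field F] [Field K] {ι : F →+* K} {g x : SL F} {l : Kˣ}

theorem S.mul (g h : SL F) : (g * h).1 = g.1 * h.1 := rfl

theorem uu_add (c d : F) : uu (c + d) = uu c * uu d :=
  Subtype.ext (by rw [S.mul]; simp [uu, add_comm])

theorem tt_mul (a b : Fˣ) : tt (a * b) = tt a * tt b :=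
  Subtype.ext (by rw [S.mul]; simp [tt, mul_comm])

theorem tt_uu (a : Fˣ) (c : F) : tt a * uu c = uu (a ^ 2 * c) * tt a :=
  Subtype.ext (by
    have := a.ne_zero
    rw [S.mul, S.mul]
    ext i j; fin_cases i <;> fin_cases j <;> simp [tt, uu]; field_simp)

theorem Ev.pow (h : Ev ι g l) (k : ℕ) : Ev ι (g ^ k) (l ^ k) := by
  obtain ⟨p, q, d, a, b⟩ := h
  have e : ∀ (c : K) v, g.1.map ι *ᵥ v = c • v → (g ^ k).1.map ι *ᵥ v = c ^ k • v := by
    intro c v h
    induction k with
    | zero => simp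
    | succ k ih =>
      rw [pow_succ, S.mul, Matrix.map_mul, ← mulVec_mulVec, h, mulVec_smul, ih,
        smul_smul, pow_succ']
  exact ⟨p, q, d, by simpa using e _ p a, by simpa using e _ q b⟩

theorem S.one_iff (h : Ev ι g l) : g = 1 ↔ l = 1 := by
  obtain ⟨p, q, d, a, b⟩ := h
  refine ⟨fun e => ?_, fun e => ?_⟩
  · subst e
    have a0 := congrFun a 0
    have a1 := congrFun a 1
    simp at a0 a1
    by_contra n
    have n' : (l : K) - 1 ≠ 0 := sub_ne_zero.2 fun e => n (Units.ext e)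
    have p0 : p 0 = 0 := (mul_eq_zero.1 (by linear_combination -a0 : ((l : K) - 1) * p 0 = 0)
      ).resolve_left n'
    have p1 : p 1 = 0 := (mul_eq_zero.1 (by linear_combination -a1 : ((l : K) - 1) * p 1 = 0)
      ).resolve_left n'
    exact d (by rw [p0, p1, zero_mul, zero_mul])
  · subst e
    have d' := sub_ne_zero.2 d
    have a0 := congrFun a 0
    have a1 := congrFun a 1
    have b0 := congrFun b 0
    have b1 := congrFun b 1
    simp [mulVec, dotProduct] at a0 a1 b0 b1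
    refine Subtype.ext ?_
    ext i j
    refine ι.injective (mul_right_cancel₀ d' ?_)
    fin_cases i <;> fin_cases j <;> simp [-mul_eq_zero]
    · linear_combination q 1 * a0 - p 1 * b0
    · linear_combination p 0 * b0 - q 0 * a0
    · linear_combination q 1 * a1 - p 1 * b1
    · linear_combination p 0 * b1 - q 0 * a1

theorem Ev.ord (h : Ev ι g l) : orderOf g = orderOf l :=
  orderOf_eq_orderOf_iff.2 fun k => S.one_iff (h.pow k)

theorem ev_tt (a : Fˣ) : Ev ι (tt a) (Units.map ι a) :=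
  ⟨![1, 0], ![0, 1], by simp, by ext i; fin_cases i <;> simp [tt, mulVec, dotProduct],
    by ext i; fin_cases i <;> simp [tt, mulVec, dotProduct]⟩

theorem S.ev_of (h : ι (g.1 0 0 + g.1 1 1) = l + (l : K)⁻¹) (n : (l : K) ^ 2 ≠ 1) : Ev ι g l := by
  have l0 := l.ne_zero
  have dt : ι (g.1 0 0) * ι (g.1 1 1) - ι (g.1 0 1) * ι (g.1 1 0) = 1 := by
    rw [← map_mul, ← map_mul, ← map_sub, ← det_fin_two, g.2, map_one]
  rw [map_add] at h
  have e : ∀ c : K, c * ((l : K) + (l : K)⁻¹) = c ^ 2 + 1 → ∃ v ≠ 0, g.1.map ι *ᵥ v = c • v := by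
    intro c hc
    obtain ⟨v, v0, hv⟩ := exists_mulVec_eq_zero_iff.2
      (show (g.1.map ι - c • (1 : Matrix (Fin 2) (Fin 2) K)).det = 0 by
        simp [det_fin_two]; linear_combination dt - c * h - hc)
    exact ⟨v, v0, by rwa [sub_mulVec, smul_mulVec, one_mulVec, sub_eq_zero] at hv⟩
  obtain ⟨p, p0, hp⟩ := e l (by field_simp)
  obtain ⟨q, q0, hq⟩ := e (l : K)⁻¹ (by field_simp; ring)
  refine ⟨p, q, fun d => q0 ?_, hp, hq⟩
  have k : ∀ i j, q i • p = p j • q → q i = 0 := fun i j e => by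
    have := congrArg (g.1.map ι *ᵥ ·) e
    simp only [mulVec_smul, hp, hq] at this
    rw [smul_comm (p j), ← e, smul_smul, smul_smul, ← sub_eq_zero, ← sub_smul] at this
    have := (smul_eq_zero.1 this).resolve_right p0
    field_simp at this
    exact (mul_eq_zero.1 (by linear_combination this : q i * ((l : K) ^ 2 - 1) = 0)).resolve_right
      (sub_ne_zero.2 n)
  ext i
  refine k i i ?_
  ext j
  fin_cases i <;> fin_cases j <;> simp [mul_comm, d]

theorem exists_ev [IsAlgClosed K] [CharP K 2] (ι : F →+* K) (h : Odd (orderOf g)) :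
    ∃ l, Ev ι g l := by
  obtain ⟨z, hz⟩ := IsAlgClosed.exists_root
    (Polynomial.C 1 * Polynomial.X ^ 2 + Polynomial.C (-ι (g.1 0 0 + g.1 1 1)) * Polynomial.X +
      Polynomial.C 1) (by rw [Polynomial.degree_quadratic one_ne_zero]; decide)
  simp only [Polynomial.IsRoot.def, Polynomial.eval_add, Polynomial.eval_mul, Polynomial.eval_C,
    Polynomial.eval_pow, Polynomial.eval_X] at hz
  have z0 : z ≠ 0 := by rintro rfl; simp at hz
  by_cases n : z ^ 2 = 1
  · have t : (2 : K) = 0 := CharTwo.two_eq_zero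
    have t' : (2 : F) = 0 := ι.injective (by rw [map_ofNat, t, map_zero])
    have tr : g.1 0 0 + g.1 1 1 = 0 := ι.injective ((mul_eq_zero.1
      (by linear_combination -hz + n + t : ι (g.1 0 0 + g.1 1 1) * z = 0)).resolve_right z0 |>.trans
        (map_zero ι).symm)
    have dt := g.2
    rw [det_fin_two] at dt
    have g2 : g ^ 2 = 1 := Subtype.ext (by
      rw [sq, S.mul]
      ext i j; fin_cases i <;> fin_cases j <;> simp [mul_apply, Fin.sum_univ_two]
      · linear_combination g.1 0 0 * tr - dt - t'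
      · linear_combination g.1 0 1 * tr
      · linear_combination g.1 1 0 * tr
      · linear_combination g.1 1 1 * tr - dt - t')
    obtain rfl : g = 1 := orderOf_eq_one_iff.1
      (Nat.Coprime.eq_one_of_dvd (Nat.coprime_two_right.2 h) (orderOf_dvd_of_pow_eq_one g2))
    exact ⟨1, ![1, 0], ![0, 1], by simp, by simp, by simp⟩
  · exact ⟨Units.mk0 z z0, S.ev_of (by simp only [Units.val_mk0]; field_simp; linear_combination -hz) n⟩

/-- The upper triangular matrices. -/
def S.Bo (F : Type*) [Field F] : Subgroup (SL F) where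
  carrier := {g | g.1 1 0 = 0}
  one_mem' := by simp
  mul_mem' := fun {a b} ha hb => by
    simp only [Set.mem_ofPred_eq] at *
    simp [mul_apply, Fin.sum_univ_two, ha, hb]
  inv_mem' := fun {a} ha => by
    simp only [Set.mem_ofPred_eq] at *
    simp [adjugate_fin_two, ha]

theorem S.tu (a : Fˣ) (c : F) : (tt a * uu c).1 = !![(a : F), a * c; 0, (a : F)⁻¹] := by
  rw [S.mul]; simp [tt, uu]

theorem S.tri (h : g ∈ S.Bo F) : ∃ a c, g = tt a * uu c := by
  have h' : g.1 1 0 = 0 := h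
  have dt := g.2
  rw [det_fin_two, h', mul_zero, sub_zero] at dt
  have a0 := left_ne_zero_of_mul_eq_one dt
  refine ⟨Units.mk0 _ a0, g.1 0 1 / g.1 0 0, Subtype.ext ?_⟩
  rw [S.tu]
  ext i j; fin_cases i <;> fin_cases j <;> simp [h']
  · field_simp
  · exact eq_inv_of_mul_eq_one_right dt

theorem S.card_Bo [Finite F] : Nat.card (S.Bo F) = (Nat.card F - 1) * Nat.card F := by
  rw [← Nat.card_units, ← Nat.card_prod]
  refine (Nat.card_eq_of_bijective (fun p : Fˣ × F => (⟨tt p.1 * uu p.2, show _ = (0 : F) by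
    rw [S.tu]; rfl⟩ : S.Bo F)) ⟨fun p q e => ?_, fun g => ?_⟩).symm
  · have e' := congrArg (fun g : S.Bo F => g.1.1) e
    simp only [S.tu] at e'
    have e0 := congrFun₂ e' 0 0
    have e1 := congrFun₂ e' 0 1
    simp at e0 e1
    simp [e0] at e1
    exact Prod.ext (Units.ext e0) e1
  · obtain ⟨a, c, e⟩ := S.tri g.2
    exact ⟨(a, c), Subtype.ext e.symm⟩

variable [Fintype F] (hF : Fintype.card F = 64)
include hF

theorem S.char : CharP F 2 := charP_of_card_eq_prime_pow (f := 6) hF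

theorem exists_gen : ∃ a : Fˣ, orderOf a = 63 ∧ ∀ b, ∃ k : ℕ, b = a ^ k := by
  obtain ⟨a, ha⟩ := IsCyclic.exists_monoid_generator (α := Fˣ)
  exact ⟨a, by rw [orderOf_eq_card_of_forall_mem_powers ha, Nat.card_units,
    Nat.card_eq_fintype_card, hF], fun b => (ha b).imp fun _ => Eq.symm⟩

theorem exists_65 : ∃ x : SL F, orderOf x = 65 := by
  have := S.char hF
  let K := AlgebraicClosure F
  have t : (2 : K) = 0 := CharTwo.two_eq_zero
  have : NeZero ((65 : ℕ) : K) := ⟨fun e => absurd ((CharP.cast_eq_zero_iff K 2 65).1 e) (by decide)⟩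
  obtain ⟨z, hz⟩ := HasEnoughRootsOfUnity.exists_primitiveRoot K 65
  have hu := hz.isUnit (by decide)
  obtain ⟨l, rfl⟩ := hu
  have ol : orderOf l = 65 := by rw [← orderOf_units, ← hz.eq_orderOf]
  have l0 := l.ne_zero
  have e64 : (l : K) ^ 2 ^ 6 = (l : K)⁻¹ := eq_inv_of_mul_eq_one_left (by rw [← pow_succ]; exact hz.1)
  have h : ((l : K) + (l : K)⁻¹) ^ Fintype.card F = l + (l : K)⁻¹ := by
    rw [hF, show 64 = 2 ^ 6 from rfl, add_pow_char_pow, inv_pow, e64, inv_inv, add_comm]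
  have h1 := (Polynomial.splits_X_pow_nat_card_sub_X (K := F)).roots_map (algebraMap F K)
  have h2 : (l : K) + (l : K)⁻¹ ∈ ((Polynomial.X ^ Nat.card F - Polynomial.X : Polynomial F).map
      (algebraMap F K)).roots := by
    simp [h, FiniteField.X_pow_card_sub_X_ne_zero K Fintype.one_lt_card]
  obtain ⟨a, -, e⟩ := Multiset.mem_map.1 (h1 ▸ h2)
  refine ⟨⟨!![0, -1; 1, a], by simp⟩, ol ▸ Ev.ord (ι := algebraMap F K) (S.ev_of (by simpa using e)
    fun n => absurd (hz.dvd_of_pow_eq_one 2 n) (by decide))⟩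

theorem card_SL : Nat.card (SL F) = 262080 := by
  have := CF.Classical.card_SL_fin (F := F) 2 (by decide)
  simp only [hF, Fin.prod_univ_two, Fin.val_zero, Fin.val_one] at this
  show Nat.card (SpecialLinearGroup (Fin 2) F) = _
  omega

theorem dec (hx : orderOf x = 65) (g : SL F) : ∃ i < 65, ∃ a c, g = x ^ i * (tt a * uu c) := by
  have c1 : Nat.card (Subgroup.zpowers x) = 65 := by rw [Nat.card_zpowers, hx]
  have c2 : Nat.card (S.Bo F) = 4032 := by rw [S.card_Bo, Nat.card_eq_fintype_card, hF]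
  obtain ⟨⟨⟨h, hh⟩, ⟨b, hb⟩⟩, e⟩ := (Subgroup.isComplement'_of_coprime (H := Subgroup.zpowers x)
    (K := S.Bo F) (by rw [c1, c2, card_SL hF]) (by rw [c1, c2]; decide)).2 g
  obtain ⟨a, c, rfl⟩ := S.tri hb
  obtain ⟨k, rfl⟩ := (mem_powers_iff_mem_zpowers.2 hh : h ∈ Submonoid.powers x)
  exact ⟨k % 65, Nat.mod_lt _ (by decide), a, c, by rw [← hx, pow_mod_orderOf]; exact e.symm⟩

theorem psl_SL : Nonempty (ProjectiveSpecialLinearGroup (Fin 2) F ≃* SL F) := by
  have h2 := CF.Classical.card_center_SL (ι := Fin 2) F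
  rw [Nat.card_eq_fintype_card (α := F), hF] at h2
  exact ⟨(QuotientGroup.quotientMulEquivOfEq (Subgroup.card_eq_one.mp h2)).trans
    QuotientGroup.quotientBot⟩

theorem out_SL : Nat.card (Out (ProjectiveSpecialLinearGroup (Fin 2) F)) = 6 := by
  obtain ⟨φ, s, -, k⟩ := Cfsg.Agent.S2602.result (F := F) (p := 2) (f := 6) (by decide) hF (by decide)
  rw [Nat.card_eq_of_bijective φ ⟨φ.ker_eq_bot_iff.1 (Subgroup.card_eq_one.1 k), s⟩]
  simp

theorem exists_ι (K : Type*) [Field K] [IsAlgClosed K] [CharP K 2] : Nonempty (F →+* K) := by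
  have := S.char hF
  let _ := ZMod.algebra F 2
  let _ := ZMod.algebra K 2
  exact ⟨(IsAlgClosed.lift : F →ₐ[ZMod 2] K)⟩

end CF.Ey
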