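import Cfsg.Agent.Ey.L2
import Cfsg.Agent.Ey.S

/-! Every simple module of `SL₂(64)` is one of the modules `Lm`. -/

set_option autoImplicit false
set_option linter.unusedSectionVars false

namespace CF.Ey

open Module Matrix CF.E83 Finset L2

variable {F K V : Type*} [Field F] [Fintype F] [Field K] [IsAlgClosed K] [CharP K 2]
  [AddCommGroup V] [Module K V] {ι : F →+* K} {r : SL F →* End K V}
  {A B : Submodule K V} {m : ℕ} (hF : Fintype.card F = 64)

/-- The Weyl element. -/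
def ww (F : Type*) [Field F] : SL F := ⟨!![0, -1; 1, 0], by simp⟩

namespace T

theorem uu_comm (c d : F) (v : V) : r (uu c) (r (uu d) v) = r (uu d) (r (uu c) v) := by
  rw [← End.mul_apply, ← End.mul_apply, ← map_mul, ← map_mul, ← uu_add, ← uu_add, add_comm]

theorem uu_sq (ι : F →+* K) (c : F) (v : V) : r (uu c) (r (uu c) v - v) = r (uu c) v - v := by
  rw [map_sub, ← End.mul_apply, ← map_mul, ← uu_add, show c + c = 0 from ι.injective (by
    rw [map_add, CharTwo.add_self_eq_zero, map_zero]),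
    show uu (0 : F) = 1 from Subtype.ext one_fin_two.symm, map_one, End.one_apply, ← neg_sub,
    ← neg_one_smul K, CharTwo.neg_eq, one_smul]

theorem nak (ι : F →+* K) (hA : Inv r A) (hB : Inv r B) (S : Finset F)
    (h : B ≤ A ⊔ S.sup fun c => B.map (r (uu c) - 1)) : B ≤ A := by
  classical
  induction S using Finset.induction with
  | empty => simpa using h
  | insert c S _ ih =>
    rw [sup_insert] at h
    refine ih (h.trans (sup_le le_sup_left (sup_le ((Submodule.map_mono h).trans ?_) le_sup_right)))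
    rw [Submodule.map_sup, Submodule.map_sup]
    refine sup_le_sup ?_ (sup_le ?_ (Submodule.map_le_iff_le_comap.2 (Finset.sup_le fun d hd => ?_)))
    · rintro _ ⟨v, hv, rfl⟩
      exact sub_mem (hA _ v hv) hv
    · rintro _ ⟨_, ⟨v, -, rfl⟩, rfl⟩
      exact (show (r (uu c) - 1) ((r (uu c) - 1) v) = 0 from sub_eq_zero.2 (uu_sq ι c v)).symm ▸ zero_mem _
    · rintro _ ⟨v, hv, rfl⟩
      refine (le_sup (f := fun c => B.map (r (uu c) - 1)) hd :) ⟨_, sub_mem (hB (uu c) v hv) hv, ?_⟩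
      simp only [LinearMap.sub_apply, End.one_apply, map_sub, uu_comm c]
      abel

theorem fixed (ι : F →+* K) (hB : Inv r B) (h : B ≠ ⊥) (S : Finset F) :
    ∃ v ∈ B, v ≠ 0 ∧ ∀ c ∈ S, r (uu c) v = v := by
  classical
  induction S using Finset.induction with
  | empty => simpa using B.ne_bot_iff.1 h
  | insert c S _ ih =>
    obtain ⟨v, h1, h2, h3⟩ := ih
    by_cases e : r (uu c) v = v
    · exact ⟨v, h1, h2, by simpa [e] using h3⟩
    · exact ⟨_, sub_mem (hB (uu c) v h1) h1, sub_ne_zero.2 e, forall_mem_insert _ _ _ |>.2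
        ⟨uu_sq ι c v, fun d hd => by rw [map_sub, uu_comm, h3 d hd]⟩⟩

theorem row (v : Pt F) : ∃ g : SL F, g.1 1 = v.1 := by
  by_cases e : v.1 1 = 0
  · have : v.1 0 ≠ 0 := fun k => v.2 (funext fun i => by fin_cases i <;> simpa)
    exact ⟨⟨!![0, -(v.1 0)⁻¹; v.1 0, v.1 1], by simp [this]⟩, funext fun i => by fin_cases i <;> rfl⟩
  · exact ⟨⟨!![(v.1 1)⁻¹, 0; v.1 0, v.1 1], by simp [e]⟩, funext fun i => by fin_cases i <;> rfl⟩

theorem row_mul (g k : SL F) : (g * k).1 1 = g.1 1 ᵥ* k.1 := rfl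

theorem row_eq {g k : SL F} (h : g.1 1 = k.1 1) : ∃ c, g = uu c * k := by
  have h1 : (g * k⁻¹).1 1 = (1 : SL F).1 1 := by rw [row_mul, h, ← row_mul, mul_inv_cancel]
  have h2 := (g * k⁻¹).2
  refine ⟨(g * k⁻¹).1 0 1, eq_mul_of_mul_inv_eq (Subtype.ext ?_)⟩
  generalize g * k⁻¹ = a at h1 h2
  rw [det_fin_two, h1] at h2
  ext i j
  fin_cases i <;> fin_cases j <;> simp_all [uu]

include hF

theorem fnl (ι : F →+* K) (hA : Inv r A) (hB : Inv r B) (h : ¬ B ≤ A) :
    ∃ m, 0 < m ∧ m < 64 ∧ ∃ ψ : Dual K V, (∀ v ∈ A, ψ v = 0) ∧ (∀ c, ∀ v ∈ B, ψ (r (uu c) v) = ψ v) ∧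
      (∀ a v, ψ (r (tt a⁻¹) v) = ι a ^ m * ψ v) ∧ ∃ v ∈ B, ψ v ≠ 0 := by
  classical
  obtain ⟨w, hw, h1⟩ := SetLike.not_le_iff_exists.1 (mt (nak ι hA hB univ) h)
  obtain ⟨φ, h2, h3⟩ := Submodule.exists_dual_map_eq_bot_of_notMem h1 inferInstance
  replace h3 : ∀ v ∈ _, φ v = 0 := fun v hv => h3.le ⟨v, hv, rfl⟩
  obtain ⟨m, hm, h4⟩ : ∃ m ∈ range 63, ∑ a : Fˣ, ι a ^ (m + 1) * φ (r (tt a) w) ≠ 0 := by
    refine exists_ne_zero_of_sum_ne_zero ?_
    rw [sum_comm, sum_eq_single 1 (fun a _ e => ?_) (by simp)]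
    · rw [show tt (1 : Fˣ) = 1 from Subtype.ext (by simp [tt, one_fin_two])]
      simpa [h2] using (CharP.cast_eq_zero_iff K 2 63).not.2 (by decide)
    · simp only [pow_succ, mul_assoc, ← sum_mul]
      rw [geom_sum_eq (by simpa [map_eq_one_iff ι ι.injective] using e), p63 hF a.ne_zero]
      simp
  refine ⟨m + 1, by omega, Nat.succ_lt_succ (mem_range.1 hm), ∑ a : Fˣ, ι a ^ (m + 1) • φ ∘ₗ r (tt a),
    fun v hv => ?_, fun c v hv => ?_, fun a v => ?_, w, hw, by simpa using h4⟩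
  · simp [fun a => h3 _ (Submodule.mem_sup_left (hA (tt a) v hv))]
  · simp only [LinearMap.sum_apply, LinearMap.smul_apply, LinearMap.comp_apply]
    refine sum_congr rfl fun a _ => congrArg _ ?_
    rw [← End.mul_apply, ← map_mul, tt_uu, map_mul, ← sub_eq_zero, ← map_sub]
    exact h3 _ (Submodule.mem_sup_right
      ((le_sup (f := fun c => B.map (r (uu c) - 1)) (mem_univ _) :) ⟨_, hB _ v hv, rfl⟩))
  · simp only [LinearMap.sum_apply, LinearMap.smul_apply, LinearMap.comp_apply, mul_sum]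
    rw [← Equiv.sum_comp (Equiv.mulRight a)]
    refine sum_congr rfl fun b _ => ?_
    rw [← End.mul_apply, ← map_mul, ← tt_mul]
    simp [mul_pow, mul_left_comm, mul_assoc]

theorem top {W : Submodule K (Pt F → K)} (hW : Inv (act F K) W) (h0 : W ≠ ⊥) (m0 : 0 < m) (hm : m < 64)
    (h : ∀ f ∈ W, ∀ (a : F) (v w : Pt F), w.1 = a • v.1 → f w = ι a ^ m * f v) :
    ∃ k < 64, (fun v => lf ι ![1, 0] v ^ k) ∈ W := by
  by_cases e : ∀ f ∈ W, ∑ s : F, f ⟨![1, s], by simp⟩ = 0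
  · obtain ⟨f, f1, f2, f3⟩ := fixed ι hW h0 univ
    have h1 : ∀ v : Pt F, v.1 0 ≠ 0 → f v = ι (v.1 0) ^ m * f ⟨![1, 0], by simp⟩ := fun v k => by
      rw [← congrFun (f3 (v.1 1 / v.1 0) (mem_univ _)) ⟨![1, 0], _⟩, act_apply]
      exact h f f1 _ _ _ (funext fun i => by fin_cases i <;> simp [pa, uu, mul_div_cancel₀, k])
    have h2 : ∀ v : Pt F, v.1 0 = 0 → f v = ι (v.1 1) ^ m * f ⟨![0, 1], by simp⟩ := fun v k =>
      h f f1 _ _ _ (funext fun i => by fin_cases i <;> simp [k])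
    have h3 : f ⟨![0, 1], by simp⟩ = (∑ s : F, ι s ^ m) * f ⟨![1, 0], by simp⟩ := by
      classical
      have := e _ (hW (ww F) f f1)
      rw [← sub_left_inj (a := ∑ s : F, ι s ^ m * f ⟨![1, 0], by simp⟩), ← sum_sub_distrib,
        sum_eq_single 0 (fun s _ k => by rw [act_apply, h1] <;> simp [pa, ww, k]) (by simp),
        act_apply, h2 _ (by simp [pa, ww])] at this
      simpa [pa, ww, CharTwo.neg_eq, m0.ne', sum_mul] using this
    suffices ∃ k < 64, f = f ⟨![1, 0], by simp⟩ • fun v => lf ι ![1, 0] v ^ k by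
      obtain ⟨k, k1, k2⟩ := this
      exact ⟨k, k1, (W.smul_mem_iff fun k => f2 (by rw [k2, k, zero_smul])).1 (k2 ▸ f1)⟩
    by_cases k : m = 63
    · subst k
      refine ⟨0, by decide, funext fun v => ?_⟩
      by_cases k : v.1 0 = 0
      · rw [h2 v k, h3, s63 hF, p63 hF fun e => v.2 (funext fun i => by fin_cases i <;> simpa)]
        simp
      · simp [h1 v k, p63 hF k]
    · refine ⟨m, hm, funext fun v => ?_⟩
      by_cases k : v.1 0 = 0
      · simp only [← map_pow, ← map_sum, FiniteField.sum_pow_lt_card_sub_one F m (by omega)] at h3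
        simp [h2 v k, h3, lf, k, m0.ne']
      · simp [h1 v k, lf, mul_comm]
  · push Not at e
    obtain ⟨f, f1, f2⟩ := e
    refine ⟨m, hm, (W.smul_mem_iff f2).1 ?_⟩
    convert sum_mem fun c (_ : c ∈ univ) => hW (uu c) f f1 using 1
    funext v
    simp only [Finset.sum_apply, act_apply]
    by_cases k : v.1 0 = 0
    · rw [sum_congr rfl fun c _ => congrArg f (show pa (uu c) v = v from Subtype.ext (funext fun i => by
        fin_cases i <;> simp [pa, uu, k, vecHead, vecTail])), s64 hF]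
      simp [lf, k, m0.ne']
    · rw [← Equiv.sum_comp (Equiv.addRight (v.1 1 / v.1 0)), Pi.smul_apply, smul_eq_mul, sum_mul]
      refine sum_congr rfl fun c _ => .trans ?_ (h f f1 (v.1 0) ⟨![1, c + v.1 1 / v.1 0], by simp⟩ _
        (funext fun i => ?_)).symm
      · simp [lf, mul_comm]
      fin_cases i <;> simp [pa, uu, vecHead, vecTail, mul_add, mul_div_cancel₀, k]

end T

open T
include hF

theorem Cov.ty (ι : F →+* K) (h : Cov r A B) : ∃ m < 64, Ty ι r A B m := by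
  obtain ⟨m, m0, hm, ψ, h1, h2, h3, w, hw, h4⟩ := fnl hF ι h.a h.b h.lt.not_ge
  choose s hs using row (F := F)
  have h5 : ∀ g k : SL F, g.1 1 = k.1 1 → ∀ v ∈ B, ψ (r g v) = ψ (r k v) := fun g k e v hv => by
    obtain ⟨c, rfl⟩ := row_eq e
    rw [map_mul, End.mul_apply, h2 _ _ (h.b _ v hv)]
  let Φ : V →ₗ[K] Pt F → K := LinearMap.pi fun v => ψ ∘ₗ r (s v)
  have h6 : ∀ g, ∀ w ∈ B, Φ (r g w) = act F K g (Φ w) := fun g w hw => funext fun v =>
    (congrArg ψ (by rw [map_mul]; rfl)).trans (h5 (s v * g) _ (by rw [row_mul, hs, hs]; rfl) w hw)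
  have h7 : ∀ W, Inv (act F K) W → B ⊓ W.comap Φ = A ∨ B ⊓ W.comap Φ = B := fun W hW =>
    h.mx _ (fun g v hv => ⟨h.b g v hv.1, show Φ _ ∈ W from h6 g v hv.1 ▸ hW g _ hv.2⟩)
      (fun v hv => ⟨h.lt.le hv, show Φ v ∈ W from
        (funext fun _ => h1 _ (h.a _ v hv) : Φ v = 0).symm ▸ zero_mem W⟩) inf_le_left
  have h8 : Φ w ≠ 0 := fun e => h4 (by
    simpa using (h5 1 _ ((hs _).trans (funext fun i => by fin_cases i <;> simp)).symm w hw).trans
      (congrFun e ⟨![0, 1], by simp⟩))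
  have h9 : B ⊓ LinearMap.ker Φ = A :=
    (h7 ⊥ fun g v hv => by simp_all).resolve_right fun e => h8 (e.ge hw).2
  have hW : Inv (act F K) (B.map Φ) := by
    rintro g _ ⟨v, hv, rfl⟩
    exact ⟨_, h.b g v hv, h6 g v hv⟩
  obtain ⟨k, k1, k2⟩ := top hF hW (fun e => h8 (e.le ⟨w, hw, rfl⟩)) m0 hm (ι := ι) (by
    rintro _ ⟨u, hu, rfl⟩ a v w e
    have a0 : a ≠ 0 := fun k => w.2 (by rw [e, k, zero_smul])
    refine (h5 _ (tt (.mk0 a a0)⁻¹ * s v) ?_ u hu).trans (by rw [map_mul]; exact h3 _ _)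
    rw [hs, e, row_mul, ← hs]
    funext i
    simp [tt, vecMul, dotProduct])
  refine ⟨k, k1, Φ, h6, le_antisymm (Submodule.map_le_iff_le_comap.2 (inf_eq_left.1
    ((h7 _ (Lm_inv hF k)).resolve_left fun e => ?_))) (Lm_le hF k1 hW k2), h9⟩
  obtain ⟨v, hv, e'⟩ := k2
  have := congrFun (e'.symm.trans (h9.ge (e.le ⟨hv, show Φ v ∈ Lm ι k from
    Submodule.subset_span ⟨_, e'.symm⟩⟩)).2) ⟨![1, 0], by simp⟩
  simp [lf] at this

end CF.Ey
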