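import Cfsg.Agent.Ey.G
import Cfsg.Agent.Ey.T

/-! Composition series of modules for `SL₂(64)`. -/

set_option autoImplicit false

namespace CF.Ey

open Module Matrix CF.E83 Finset

theorem sm_add (n k : Fin 64 → ℕ) (w : ℕ → ℕ) : sm (n + k) w = sm n w + sm k w := by
  simp [sm, add_mul, sum_add_distrib]

theorem sm_single (m : Fin 64) (w : ℕ → ℕ) : sm (Pi.single m 1) w = w m := by
  simp [sm, Pi.single_apply]

variable {F K V : Type*} [Field F] [Fintype F] [Field K] [IsAlgClosed K] [CharP K 2]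
  [AddCommGroup V] [Module K V] [FiniteDimensional K V] {ι : F →+* K} {r : SL F →* End K V}
  {A B : Submodule K V} {m : ℕ} {g x : SL F} {l : Kˣ} (hF : Fintype.card F = 64)

omit [IsAlgClosed K] in
theorem odd_ne {N : ℕ} (h : Odd N) : (N : K) ≠ 0 := fun e =>
  Nat.not_even_iff_odd.2 h (even_iff_two_dvd.2 ((CharP.cast_eq_zero_iff K 2 N).1 e))

omit [Fintype F] [IsAlgClosed K] [CharP K 2] in
theorem cf_bot : Cf ι r ⊥ 0 := ⟨fun _ _ h => by rw [(Submodule.mem_bot K).1 h, map_zero]; exact zero_mem _,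
  fun _ _ _ _ _ _ _ => by simp [ed, sm], by simp [sm], by
    rw [show Zc r ⊥ = ⊥ from eq_bot_iff.2 fun f hf => funext hf.1]; simp⟩

include hF

omit [IsAlgClosed K] [FiniteDimensional K V] in
theorem cm (hx : orderOf x = 65) {v : V} (h1 : ∀ c, r (uu c) v = v) (h2 : ∀ a, r (tt a) v = v) :
    ∃ C, Inv r C ∧ C ⊓ fs (r x) = ⊥ ∧ (∀ A, Inv r A → v ∈ A → C ≤ A) ∧ ∀ g, r g v - v ∈ C := by
  refine ⟨Submodule.span K (Set.range fun g => r g v - v), fun g w hw => ?_, ?_,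
    fun A a hv => Submodule.span_le.2 ?_, fun g => Submodule.subset_span ⟨g, rfl⟩⟩
  · refine (show _ ≤ (Submodule.span K _).comap (r g) from Submodule.span_le.2 ?_) hw
    rintro _ ⟨k, rfl⟩
    rw [SetLike.mem_coe, Submodule.mem_comap, map_sub, ← End.mul_apply, ← map_mul,
      ← sub_sub_sub_cancel_right _ _ v]
    exact sub_mem (Submodule.subset_span ⟨_, rfl⟩) (Submodule.subset_span ⟨_, rfl⟩)
  · refine eq_bot_iff.2 ((inf_le_inf_right _ (Submodule.span_le.2 ?_)).trans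
      (fs_range (odd_ne (by decide)) (hx ▸ pow_orderOf_eq_one x : x ^ 65 = 1)).le)
    rintro _ ⟨g, rfl⟩
    obtain ⟨i, -, a, c, rfl⟩ := dec hF hx g
    exact ⟨(∑ k ∈ range i, r x ^ k) v, by
      rw [← End.mul_apply, mul_geom_sum, ← map_pow]; simp [h1, h2]⟩
  · rintro _ ⟨i, rfl⟩
    exact sub_mem (a _ v hv) hv

theorem Cf.step {n : Fin 64 → ℕ} (h : Cf ι r A n) (hB : Inv r B) {m : Fin 64} (t : Ty ι r A B m) :
    Cf ι r B (n + Pi.single m 1) := by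
  obtain ⟨Φ, h1, h2, h3⟩ := t
  refine ⟨hB, fun g l N i e o d => ?_, ?_, ?_⟩
  · rw [sm_add, sm_single, ← h.ch g l N i e o d, ed_map (r' := act F K) Φ (odd_ne d)
      (by rw [← o, ← e.ord, pow_orderOf_eq_one]) (by
        rw [← Units.val_pow_eq_pow_val, pow_right_comm, ← o, pow_orderOf_eq_one]; simp)
      (hB g) (h1 g), h2, h3, Lm_ed hF m.2 e, o]
  · rw [sm_add, sm_single, ← h.rk, ← rk_map Φ B, h2, h3, Lm_rk hF m.2, add_comm]
  · rw [sm_add, sm_single, ← rk_map (Φ.compLeft F) (Zc r B), add_comm]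
    refine add_le_add ((Submodule.finrank_mono ?_).trans h.z)
      ((Submodule.finrank_mono ?_).trans (Lm_z hF (ι := ι) m.2))
    · exact fun f hf => ⟨fun c => h3 ▸ ⟨hf.1.1 c, congrFun hf.2 c⟩, hf.1.2⟩
    · rintro _ ⟨f, hf, rfl⟩
      refine ⟨fun c => h2 ▸ ⟨_, hf.1 c, rfl⟩, fun c d => ?_, fun a c => ?_⟩
      · change Φ (f _) = Φ (f c) + act F K _ (Φ (f d))
        rw [hf.2.1, map_add, h1 _ _ (hf.1 d)]
      · change Φ (f _) = act F K _ (Φ (f c))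
        rw [hf.2.2, h1 _ _ (hf.1 c)]

theorem Ty.st (hx : orderOf x = 65) (hB : Inv r B) (t : Ty ι r A B 63) :
    ∃ C ≤ B, Inv r C ∧ C ⊓ fs (r x) = ⊥ ∧ ¬ C ≤ A := by
  classical
  obtain ⟨Φ, h1, h2, h3⟩ := t
  obtain ⟨z, z1, z2, z3⟩ := L63 hF (ι := ι)
  obtain ⟨w, hw, rfl⟩ := h2.ge z1
  have w1 : ∑ a, r (tt a) w ∈ B := sum_mem fun a _ => hB _ _ hw
  have w2 : Φ (∑ a, r (tt a) w) = Φ w := by
    rw [map_sum, sum_congr rfl fun a _ => (h1 _ _ hw).trans (z2 a), sum_const, card_univ,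
      Fintype.card_units, hF, ← Nat.cast_smul_eq_nsmul K, CharP.cast_eq_mod K 2]
    simp
  have w3 : ∀ a, r (tt a) (∑ a, r (tt a) w) = ∑ a, r (tt a) w := fun a => by
    rw [map_sum, ← Equiv.sum_comp (Equiv.mulLeft a) fun a => r (tt a) w]
    simp [tt_mul]
  generalize ∑ a, r (tt a) w = w' at w1 w2 w3
  have v1 : ∑ c, r (uu c) w' ∈ B := sum_mem fun a _ => hB _ _ w1
  have v2 : Φ (∑ c, r (uu c) w') = fun v => lf ι ![1, 0] v ^ 63 := by
    rw [map_sum, sum_congr rfl fun a _ => h1 _ _ w1, w2, z3]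
  obtain ⟨C, c1, c2, c3, c4⟩ := cm hF (r := r) hx (v := ∑ c, r (uu c) w') (fun d => by
    rw [map_sum, ← Equiv.sum_comp (Equiv.addLeft d) fun c => r (uu c) w']
    simp [uu_add]) fun a => by
    rw [map_sum, ← Equiv.sum_comp (Equiv.mulLeft₀ ((a : F) ^ 2) (by simp)) fun c => r (uu c) w']
    refine sum_congr rfl fun c _ => ?_
    rw [← End.mul_apply, ← map_mul, tt_uu, map_mul, End.mul_apply, w3]
    rfl
  refine ⟨C, c3 B hB v1, c1, c2, fun e => ?_⟩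
  have h4 : Φ _ = 0 := (h3.ge (e (c4 x))).2
  obtain ⟨l, hl⟩ := exists_ev ι (g := x) (by rw [hx]; decide)
  have h5 := Lm_ed hF (by decide : 63 < 64) hl 0
  rw [← hl.ord, hx, pow_zero, Units.val_one, ed_one, show wt 65 63 0 = 0 by decide +kernel,
    Submodule.finrank_eq_zero] at h5
  rw [map_sub, h1 _ _ v1, v2, sub_eq_zero] at h4
  have h6 := congrFun (h5.le ⟨Submodule.subset_span ⟨_, rfl⟩, mem_fs.2 h4⟩) ⟨![1, 0], by simp⟩
  simp [lf] at h6

theorem Cf.ext (hx : orderOf x = 65) {n : Fin 64 → ℕ} (h : Cf ι r A n) (hB : Inv r B) (e : A ≤ B) :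
    ∃ k, Cf ι r B (n + k) ∧ (k 63 ≠ 0 → ∃ C ≤ B, Inv r C ∧ C ⊓ fs (r x) = ⊥ ∧ ¬ C ≤ A) := by
  induction A using WellFoundedGT.induction generalizing n with
  | ind A ih =>
  rcases e.eq_or_lt with rfl | e'
  · exact ⟨0, by simpa using h, by simp⟩
  obtain ⟨C, c1, c2⟩ := exists_cov h.inv hB e'
  obtain ⟨m, hm, t⟩ := c2.ty hF ι
  obtain ⟨k, k1, k2⟩ := ih C c2.lt (h.step hF c2.b (m := ⟨m, hm⟩) t) c1
  refine ⟨_, by rwa [add_assoc] at k1, fun k3 => ?_⟩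
  by_cases k4 : m = 63
  · subst k4
    obtain ⟨D, d1, d2⟩ := t.st hF hx c2.b
    exact ⟨D, d1.trans c1, d2⟩
  · obtain ⟨D, d1, d2, d3, d4⟩ := k2 (by
      rwa [Pi.add_apply, Pi.single_eq_of_ne (fun k => k4 (congrArg Fin.val k).symm), zero_add] at k3)
    exact ⟨D, d1, d2, d3, fun k => d4 (k.trans c2.lt.le)⟩

end CF.Ey
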