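import Cfsg.Agent.Ey.M1
import Cfsg.Agent.Ey.IP

/-! Multiplicities of composition factors of modules for `SL₂(64)`. -/

set_option autoImplicit false

namespace CF.Ey

open Module Matrix CF.E83 Finset

variable {F K V : Type*} [Field F] [Fintype F] [Field K] [IsAlgClosed K] [CharP K 2]
  [AddCommGroup V] [Module K V] [FiniteDimensional K V] {ι : F →+* K} {r : SL F →* End K V}
  {A B : Submodule K V} {m : ℕ} {g x : SL F} {l : Kˣ} (hF : Fintype.card F = 64)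
include hF

theorem Inv.cf (ι : F →+* K) (h : Inv r A) : Cf ι r A (nn ι r A) := by
  obtain ⟨x, hx⟩ := exists_65 hF
  obtain ⟨k, hk, -⟩ := (cf_bot (ι := ι)).ext hF hx h bot_le
  exact Classical.epsilon_spec ⟨_, hk⟩

theorem uniq' (ι : F →+* K) {n n' : Fin 64 → ℕ} (h : ∀ g (l : Kˣ) N, Ev ι g l → orderOf l = N →
    N = 63 ∨ N = 65 → ∀ i, sm n (wt N · i) = sm n' (wt N · i)) : n = n' := by
  obtain ⟨x, hx⟩ := exists_65 hF
  obtain ⟨l, hl⟩ := exists_ev ι (g := x) (by rw [hx]; decide)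
  obtain ⟨a, ha, -⟩ := exists_gen hF
  exact uniq (fun i _ => h x l 65 hl (hl.ord.symm.trans hx) (.inr rfl) i) fun i _ => h _ _ 63
    (ev_tt a) ((orderOf_injective _ (Units.map_injective ι.injective) a).trans ha) (.inl rfl) i

omit [Fintype F] [IsAlgClosed K] hF in
theorem Ev.aux {N : ℕ} (e : Ev ι g l) (o : orderOf l = N) (h : N = 63 ∨ N = 65) :
    Odd N ∧ (N : K) ≠ 0 ∧ g ^ N = 1 ∧ ∀ i : ℕ, ((l ^ i : Kˣ) : K) ^ N = 1 := by
  have d : Odd N := by rcases h with rfl | rfl <;> decide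
  exact ⟨d, odd_ne d, by rw [← o, ← e.ord, pow_orderOf_eq_one], fun i => by
    rw [← Units.val_pow_eq_pow_val, pow_right_comm, ← o, pow_orderOf_eq_one]; simp⟩

theorem Cf.eq {n : Fin 64 → ℕ} (h : Cf ι r A n) : nn ι r A = n :=
  uniq' hF ι fun g l N e o d i => by
    rw [← (h.inv.cf hF ι).ch g l N i e o (e.aux o d).1, h.ch g l N i e o (e.aux o d).1]

theorem nn_ext (ι : F →+* K) (hA : Inv r A) (hB : Inv r B) (e : A ≤ B) :
    ∃ k, nn ι r B = nn ι r A + k ∧ finrank K B = finrank K A + sm k dd := by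
  obtain ⟨x, hx⟩ := exists_65 hF
  obtain ⟨k, hk, -⟩ := (hA.cf hF ι).ext hF hx hB e
  exact ⟨k, hk.eq hF, by rw [hk.rk, sm_add, (hA.cf hF ι).rk]⟩

theorem nn_mono (ι : F →+* K) (hA : Inv r A) (hB : Inv r B) (e : A ≤ B) :
    nn ι r A ≤ nn ι r B := by
  obtain ⟨k, hk, -⟩ := nn_ext hF ι hA hB e
  exact hk ▸ le_self_add

theorem Cov.nn (ι : F →+* K) (h : Cov r A B) : ∃ m : Fin 64,
    nn ι r B = nn ι r A + Pi.single m 1 ∧ finrank K B = finrank K A + dd m := by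
  obtain ⟨m, hm, t⟩ := h.ty hF ι
  have := (h.a.cf hF ι).step hF h.b (m := ⟨m, hm⟩) t
  exact ⟨_, this.eq hF, by rw [this.rk, sm_add, sm_single, (h.a.cf hF ι).rk]⟩

theorem nn_small (ι : F →+* K) (hA : Inv r A) (hB : Inv r B) (e : A ≤ B)
    (h : finrank K B < finrank K A + 64) : nn ι r B 63 = nn ι r A 63 := by
  obtain ⟨k, h1, h2⟩ := nn_ext hF ι hA hB e
  have h3 : k 63 * dd (63 : Fin 64) ≤ sm k dd :=
    single_le_sum (f := fun m => k m * dd m) (fun _ _ => Nat.zero_le _) (mem_univ 63)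
  rw [show dd (63 : Fin 64) = 64 by decide +kernel] at h3
  rw [h1, Pi.add_apply]
  omega

theorem nn_sup (ι : F →+* K) (hA : Inv r A) (hB : Inv r B) :
    nn ι r (A ⊔ B) + nn ι r (A ⊓ B) = nn ι r A + nn ι r B :=
  uniq' hF ι fun g l N e o d i => by
    obtain ⟨h1, h2, h3, h4⟩ := e.aux o d
    rw [sm_add, sm_add, ← ((hA.sup hB).cf hF ι).ch g l N i e o h1,
      ← ((hA.inf hB).cf hF ι).ch g l N i e o h1, ← (hA.cf hF ι).ch g l N i e o h1,
      ← (hB.cf hF ι).ch g l N i e o h1, ed_sup h2 h3 (h4 i) (hA g) (hB g)]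

theorem nn_65 (ι : F →+* K) (hA : Inv r A) (hx : orderOf x = 65) :
    finrank K ↥(A ⊓ fs (r x)) = nn ι r A 0 := by
  obtain ⟨l, hl⟩ := exists_ev ι (g := x) (by rw [hx]; decide)
  rw [← sm65 (nn ι r A), ← (hA.cf hF ι).ch x l 65 0 hl (hl.ord.symm.trans hx) (by decide), ← ed_one]
  simp

theorem nn_63 (ι : F →+* K) (hA : Inv r A) (hg : orderOf g = 63) :
    finrank K ↥(A ⊓ fs (r g)) = nn ι r A 0 + 2 * nn ι r A 63 := by
  obtain ⟨l, hl⟩ := exists_ev ι (g := g) (by rw [hg]; decide)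
  rw [← sm63, ← (hA.cf hF ι).ch g l 63 0 hl (hl.ord.symm.trans hg) (by decide), ← ed_one]
  simp

theorem nn_st (ι : F →+* K) (hx : orderOf x = 65) (hA : Inv r A)
    (h : ∀ C, Inv r C → C ⊓ fs (r x) = ⊥ → C ≤ A) : nn ι r A 63 = nn ι r ⊤ 63 := by
  obtain ⟨k, h1, h2⟩ := (hA.cf hF ι).ext hF hx (B := ⊤) (fun _ _ _ => trivial) le_top
  rw [h1.eq hF, Pi.add_apply, left_eq_add]
  by_contra k0
  obtain ⟨C, -, c1, c2, c3⟩ := h2 k0
  exact c3 (h C c1 c2)

theorem nn_perp (ι : F →+* K) {b : V →ₗ[K] V →ₗ[K] K} (h : Fm r b) (hA : Inv r A) :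
    nn ι r A + nn ι r (LinearMap.BilinForm.orthogonal b A) = nn ι r ⊤ :=
  uniq' hF ι fun g l N e o d i => by
    obtain ⟨h1, h2, h3, h4⟩ := e.aux o d
    have h5 := h.ed_perp h2 h3 (h4 ((N - 1) * i)) (hA g)
    have h6 : ((l ^ ((N - 1) * i) : Kˣ) : K)⁻¹ = (l ^ i : Kˣ) := inv_eq_of_mul_eq_one_right (by
      rw [← Units.val_mul, ← pow_add, ← add_one_mul, Nat.sub_add_cancel (show 1 ≤ N from h1.pos), mul_comm, pow_mul,
        Units.val_pow_eq_pow_val, h4])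
    rw [h6, (hA.cf hF ι).ch g l N _ e o h1, ((h.inv_perp hA).cf hF ι).ch g l N _ e o h1,
      (Inv.cf hF ι (A := ⊤) fun _ _ _ => trivial).ch g l N _ e o h1] at h5
    rw [sm_add, ← h5]
    simp only [sm, wt_neg N d]

theorem nn_fr (ι : F →+* K) {σ : V →+ V} (h : Fr r σ) (hA : Inv r A) (e : ∀ v ∈ A, σ v ∈ A) :
    nn ι r A ∘ sh = nn ι r A :=
  uniq' hF ι fun g l N k o d i => by
    obtain ⟨h1, -, -, h4⟩ := k.aux o d
    rw [wt_sh N d, ← (hA.cf hF ι).ch g l N _ k o h1, ← (hA.cf hF ι).ch g l N _ k o h1,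
      ← h.ed_sq e h1 (h4 i), mul_comm, pow_mul, Units.val_pow_eq_pow_val]

omit [Fintype F] hF in
theorem bruhat (g : SL F) : (∃ a c, g = tt a * uu c) ∨ ∃ s a c, g = uu s * ww F * (tt a * uu c) := by
  have d := g.2
  rw [det_fin_two] at d
  by_cases h : g.1 1 0 = 0
  · rw [h, mul_zero, sub_zero] at d
    refine .inl ⟨.mk0 _ (left_ne_zero_of_mul_eq_one d), g.1 1 1 * g.1 0 1, Subtype.ext ?_⟩
    change _ = (tt _).1 * (uu _).1
    ext i j
    fin_cases i <;> fin_cases j <;> simp [tt, uu, h, eq_inv_of_mul_eq_one_right d,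
      left_ne_zero_of_mul_eq_one d]
  · refine .inr ⟨g.1 0 0 / g.1 1 0, .mk0 _ h, g.1 1 1 / g.1 1 0, Subtype.ext ?_⟩
    change _ = (uu _).1 * (ww F).1 * ((tt _).1 * (uu _).1)
    ext i j
    fin_cases i <;> fin_cases j <;> simp [tt, uu, ww] <;> field_simp
    linear_combination -d

omit [Fintype F] hF in
theorem tt_ww (a : Fˣ) : tt a * ww F = ww F * tt a⁻¹ := Subtype.ext (by
  change (tt _).1 * (ww F).1 = (ww F).1 * (tt _).1
  simp [tt, ww])

theorem press (ι : F →+* K) (hA : Inv r A) (h : nn ι r A 63 = 0) :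
    nn ι r A 0 ≤ finrank K ↥(A ⊓ fx r) + nb (nn ι r A) := by
  obtain ⟨x, hx⟩ := exists_65 hF
  obtain ⟨a, ha, h1⟩ := exists_gen hF
  have hy : orderOf (tt a) = 63 := (ev_tt (ι := ι) a).ord.trans
    ((orderOf_injective _ (Units.map_injective ι.injective) a).trans ha)
  have h2 : ∀ v ∈ fs (r (tt a)), ∀ b, r (tt b) v = v := fun v hv b => by
    obtain ⟨k, rfl⟩ := h1 b
    induction k with
    | zero => rw [show tt (a ^ 0) = 1 from Subtype.ext (by simp [tt, one_fin_two]), map_one]; rfl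
    | succ k ih => rw [pow_succ, tt_mul, map_mul, End.mul_apply, mem_fs.1 hv, ih]
  have h3 := rk_map (LinearMap.pi fun c : F => r (uu c) - 1) (A ⊓ fs (r (tt a)))
  have h4 := (hA.cf hF ι).z
  rw [nn_63 hF ι hA hy, h] at h3
  rw [sm_zz, h] at h4
  have h5 : (A ⊓ fs (r (tt a))).map (LinearMap.pi fun c : F => r (uu c) - 1) ≤ Zc r A := by
    rintro _ ⟨v, hv, rfl⟩
    refine ⟨fun c => sub_mem (hA _ v hv.1) hv.1, fun c d => ?_, fun b c => ?_⟩
    · simp [add_comm c, uu_add, show r (uu d) (r (uu c) v) = r (uu c) (r (uu d) v) by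
        rw [← End.mul_apply, ← End.mul_apply, ← map_mul, ← map_mul, ← uu_add, ← uu_add, add_comm]]
    · have := congrArg (fun g => r g v) (tt_uu b c)
      simp only [map_mul, End.mul_apply, h2 v hv.2] at this
      simp [this, h2 v hv.2]
  have h6 : A ⊓ fs (r (tt a)) ⊓ LinearMap.ker (LinearMap.pi fun c : F => r (uu c) - 1) ≤ A ⊓ fx r :=
    fun v hv => ⟨hv.1.1, by
      have k1 : ∀ c, r (uu c) v = v := fun c => sub_eq_zero.1 (congrFun hv.2 c)
      have k2 := h2 v hv.1.2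
      obtain ⟨C, c1, c2, c3, c4⟩ := cm hF hx k1 k2
      have k3 := nn_63 hF ι c1 hy
      rw [← nn_65 hF ι c1 hx, c2, finrank_bot, Nat.le_zero.1 ((nn_mono hF ι c1 hA
        (c3 A hA hv.1.1) 63).trans h.le), Submodule.finrank_eq_zero] at k3
      have k4 : r (ww F) v = v := sub_eq_zero.1 (k3.le ⟨c4 _, mem_fs.2 (by
        rw [map_sub, k2, ← End.mul_apply, ← map_mul, tt_ww, map_mul, End.mul_apply, k2])⟩)
      refine (Submodule.mem_iInf _).2 fun g => mem_fs.2 ?_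
      rcases bruhat g with ⟨_, _, rfl⟩ | ⟨_, _, _, rfl⟩ <;> simp [k1, k2, k4]⟩
  have h7 := Submodule.finrank_mono h5
  have h8 := Submodule.finrank_mono h6
  omega

end CF.Ey
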