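import Cfsg.Agent.Ey.K
import Cfsg.Agent.E72.C

/-! `L₂(64)` is not the generalized Fitting subgroup of a maximal subgroup. -/

set_option autoImplicit false

namespace CF.Ey

open Module Matrix CF.E83 Cfsg

variable {F K V : Type*} [Field F] [Fintype F] [Field K] [IsAlgClosed K] [CharP K 2]
  [AddCommGroup V] [Module K V] [FiniteDimensional K V] (hF : Fintype.card F = 64)
  {X : Type*} [Group X] {R : X →* End K V} {br : V →ₗ[K] V →ₗ[K] V}
  {b : V →ₗ[K] V →ₗ[K] K} {σ : V →+ V}

/-- The stabilizer of a subspace. -/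
def stb [Finite X] (R : X →* End K V) (W : Submodule K V) : Subgroup X :=
  let M : Submonoid X :=
    { carrier := {g | ∀ v ∈ W, R g v ∈ W}
      one_mem' := fun v h => by simpa using h
      mul_mem' := fun a b v h => by simpa using a _ (b v h) }
  { M with
    inv_mem' := fun {g} h => Submonoid.powers_le.2 (show g ∈ M from h)
      ((isOfFinOrder_of_finite g).mem_powers_iff_mem_zpowers.2 (inv_mem (Subgroup.mem_zpowers g))) }

include hF in
theorem Dt.no (D : Dt R br b σ) [Finite X] {H : Subgroup X} (hH : IsCoatom H) :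
    IsEmpty (generalizedFittingSubgroup H ≃* ProjectiveSpecialLinearGroup (Fin 2) F) := by
  refine ⟨fun φ => ?_⟩
  obtain ⟨ψ⟩ := psl_SL hF
  have hi := CF.E72.fstar_idx φ
  rw [out_SL hF] at hi
  set S := generalizedFittingSubgroup H with hS
  haveI : S.Normal := inferInstance
  let j : SL F →* X := (H.subtype.comp S.subtype).comp (φ.trans ψ).symm.toMonoidHom
  have hj : Function.Injective j :=
    (H.subtype_injective.comp S.subtype_injective).comp (φ.trans ψ).symm.injective
  obtain ⟨x, hx⟩ := exists_65 hF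
  obtain ⟨W, w0, w1, w2, w3⟩ := D.key hF hj hx
  obtain ⟨c, c1, c2, c3⟩ := D.tor (j x) ((orderOf_injective j hj x).trans hx)
  have e1 : j.range = S.map H.subtype := by
    rw [MonoidHom.range_comp, MonoidHom.range_eq_top.2 (φ.trans ψ).symm.surjective,
      ← Subgroup.map_map, ← MonoidHom.range_eq_map, Subgroup.range_subtype]
  have e2 : H ≤ Subgroup.normalizer (j.range : Set X) := by
    rw [e1]
    exact (H.range_subtype.ge.trans (MonoidHom.range_eq_map _).le).trans
      ((Subgroup.map_mono (Subgroup.normalizer_eq_top S).ge).trans (S.le_normalizer_map _))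
  have e3 : stb R W = H := (hH.le_iff.1 (show H ≤ stb R W from fun g hg => w2 g (e2 hg))).resolve_left fun k =>
    (D.irr W fun g => (k.ge trivial : g ∈ stb R W)).elim w0 w1
  have e4 := c1 H ((φ.trans ψ).symm x).1.2 (e3.le (show ∀ v ∈ W, R c v ∈ W from
    w3.elim (c2 W) fun k v hv => (c3 v (k v hv)).symm ▸ hv))
  rw [← S.card_mul_index, Nat.card_congr (φ.trans ψ).toEquiv, card_SL hF] at e4
  exact absurd (e4.trans (Nat.mul_dvd_mul_left _ hi)) (by decide)

end CF.Ey
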